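import Cfsg.Agent.H14.Morph
import Cfsg.Agent.H14.Types

/-! The graph symmetries of the tables and the embeddings of `E₆`, `E₇` into `E₈`. -/

set_option autoImplicit false
set_option Elab.async false

namespace Cfsg.Agent.H14

open Cfsg.Lie

lemma stG2 : StData chevG2 := by unfold StData; decide +kernel
lemma stB2 : StData chevB2 := by unfold StData; decide +kernel
lemma stD4 : StData chevD4 := by unfold StData; decide +kernel
lemma stF4 : StData chevF4 := by unfold StData; decide +kernel
lemma stE6 : StData chevE6 := by unfold StData; decide +kernel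
lemma stE7 : StData chevE7 := by unfold StData; decide +kernel
lemma stE8 : StData chevE8 := by unfold StData; decide +kernel

theorem stData_of_mem {D : ChevalleyDatum} (hD : D ∈ [chevG2, chevB2, chevD4, chevF4, chevE6, chevE7, chevE8]) :
    StData D := by
  simp only [List.mem_cons, List.not_mem_nil, or_false] at hD
  rcases hD with rfl | rfl | rfl | rfl | rfl | rfl | rfl
  exacts [stG2, stB2, stD4, stF4, stE6, stE7, stE8]

lemma slD4 (G : Good chevD4) : ∀ r s, G.R.len r = G.R.len s :=
  len_eq_of_symm G (connD4 G) (by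
    rw [car_eqD4]; exact (by decide +kernel : ∀ i j : Fin 4, carD4 i j = carD4 j i))

lemma slE6 (G : Good chevE6) : ∀ r s, G.R.len r = G.R.len s :=
  len_eq_of_symm G (connE6 G) (by
    rw [car_eqE6]; exact (by decide +kernel : ∀ i j : Fin 6, carE6 i j = carE6 j i))

lemma slE7 (G : Good chevE7) : ∀ r s, G.R.len r = G.R.len s :=
  len_eq_of_symm G (connE7 G) (by
    rw [car_eqE7]; exact (by decide +kernel : ∀ i j : Fin 7, carE7 i j = carE7 j i))

lemma slE8 (G : Good chevE8) : ∀ r s, G.R.len r = G.R.len s :=
  len_eq_of_symm G (connE8 G) (by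
    rw [car_eqE8]; exact (by decide +kernel : ∀ i j : Fin 8, carE8 i j = carE8 j i))

/-- the map of roots E6 → E6 with node map [5, 1, 4, 3, 2, 0] -/
noncomputable def morE6 : Morph chevE6 chevE6 1 :=
  mkMorph goodE6 goodE6 bridgeE6 bridgeE6 (slE6 _) (slE6 _)
    0x47464542374441363f34313c2d2926244340353e33303d322f2e3b2c28253a2b27392a380f1d0e201c0d221f1b0c1918150a17140912070423211e1a0b1613081106031005020100
    0x47464542374441363f34313c2d2926244340353e33303d322f2e3b2c28253a2b27392a380f1d0e201c0d221f1b0c1918150a17140912070423211e1a0b1613081106031005020100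
    0x96ad22942944b5690
    (by decide +kernel) (by decide +kernel)

lemma morE6_simple : ∀ i < 6, morE6.ρ (chevE6.simple i) = chevE6.simple ([5, 1, 4, 3, 2, 0].getD i 0) ∧
    morE6.ε (chevE6.simple i) = 1 := by decide +kernel

lemma morE6_e (r : ℕ) : morE6.e r = 1 := rfl

/-- the map of roots D4 → D4 with node map [2, 1, 3, 0] -/
noncomputable def morD4a : Morph chevD4 chevD4 1 :=
  mkMorph goodD4 goodD4 bridgeD4 bridgeD4 (slD4 _) (slD4 _)
    0x17161115100d140f130e0c12050b090408030a0702060100
    0x171614110f0c1513100e120d0a05090704020b0806030100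
    0x2a8154
    (by decide +kernel) (by decide +kernel)

lemma morD4a_simple : ∀ i < 4, morD4a.ρ (chevD4.simple i) = chevD4.simple ([2, 1, 3, 0].getD i 0) ∧
    morD4a.ε (chevD4.simple i) = 1 := by decide +kernel

lemma morD4a_e (r : ℕ) : morD4a.e r = 1 := rfl

/-- the map of roots D4 → D4 with node map [3, 1, 0, 2] -/
noncomputable def morD4b : Morph chevD4 chevD4 1 :=
  mkMorph goodD4 goodD4 bridgeD4 bridgeD4 (slD4 _) (slD4 _)
    0x171614110f0c1513100e120d0a05090704020b0806030100
    0x17161115100d140f130e0c12050b090408030a0702060100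
    0x1b00d8
    (by decide +kernel) (by decide +kernel)

lemma morD4b_simple : ∀ i < 4, morD4b.ρ (chevD4.simple i) = chevD4.simple ([3, 1, 0, 2].getD i 0) ∧
    morD4b.ε (chevD4.simple i) = 1 := by decide +kernel

lemma morD4b_e (r : ℕ) : morD4b.e r = 1 := rfl

/-- the map of roots D4 → D4 with node map [0, 1, 3, 2] -/
noncomputable def morD4c : Morph chevD4 chevD4 1 :=
  mkMorph goodD4 goodD4 bridgeD4 bridgeD4 (slD4 _) (slD4 _)
    0x171614151312110f100e0c0d0a0b09070806050402030100
    0x171614151312110f100e0c0d0a0b09070806050402030100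
    0x0
    (by decide +kernel) (by decide +kernel)

lemma morD4c_simple : ∀ i < 4, morD4c.ρ (chevD4.simple i) = chevD4.simple ([0, 1, 3, 2].getD i 0) ∧
    morD4c.ε (chevD4.simple i) = 1 := by decide +kernel

lemma morD4c_e (r : ℕ) : morD4c.e r = 1 := rfl

/-- the map of roots E6 → E8 with node map [0, 1, 2, 3, 4, 5] -/
noncomputable def morE68 : Morph chevE6 chevE8 1 :=
  mkMorph goodE6 goodE8 bridgeE6 bridgeE8 (slE6 _) (slE8 _)
    0xccc2bcb9b8b2afaeabaaa9a6a5a4a3a29c9998959493908f8e8d8a8988878483827f7e7b7471706d6c6b686766656261605f5c5b5a5756534d4c4b4a4946454441403d3736332d23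
    0x4700000000000000000046000000000045000044430000000000420000414000003f3e3d00003c3b3a3938000000000037000036350000343332000031302f2e00002d2c2b2a00002928270000262500002400000000000023000022210000201f1e00001d1c1b1a00001918171600001514130000121100001000000000000f0e0d0c0b00000a09080000070600000500000000000403000002000000000001000000000000000000000000000000000000000000000000000000000000000000000000000000000000000000
    0x0
    (by decide +kernel) (by decide +kernel)

lemma morE68_simple : ∀ i < 6, morE68.ρ (chevE6.simple i) = chevE8.simple ([0, 1, 2, 3, 4, 5].getD i 0) ∧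
    morE68.ε (chevE6.simple i) = 1 := by decide +kernel

lemma morE68_e (r : ℕ) : morE68.e r = 1 := rfl

/-- the map of roots E7 → E8 with node map [0, 1, 2, 3, 4, 5, 6] -/
noncomputable def morE78 : Morph chevE7 chevE8 1 :=
  mkMorph goodE7 goodE8 bridgeE7 bridgeE8 (slE7 _) (slE8 _)
    0xe2dbd6d2cfcdccc8c5c3c2bfbdbcbab9b8b5b3b2b0afaeacabaaa9a7a6a5a4a3a29f9d9c9a99989695949391908f8e8d8b8a89888785848382807f7e7c7b7976747371706f6d6c6b6a68676665646261605f5e5c5b5a595756555352504d4c4b4a49484645444341403f3d3c3a3736353332302d2c2a272322201d19140d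
    0x7d0000000000007c000000007b0000007a00007900787700000076000075007473000072007170006f6e6d00006c006b6a006968670066656463006261605f5e5d00005c005b5a005958570056555453005251504f4e004d4c4b4a49004847464500444342004140003f00003e003d3c003b3a390038373635003433323130002f2e2d2c2b002a2928270026252400232200210000201f1e1d1c1b001a1918170016151400131200110000100f0e000d0c000b00000a090008000007000000060500040000030000000200000000010000000000000000000000000000000000000000
    0x0
    (by decide +kernel) (by decide +kernel)

lemma morE78_simple : ∀ i < 7, morE78.ρ (chevE7.simple i) = chevE8.simple ([0, 1, 2, 3, 4, 5, 6].getD i 0) ∧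
    morE78.ε (chevE7.simple i) = 1 := by decide +kernel

lemma morE78_e (r : ℕ) : morE78.e r = 1 := rfl

/-- the map of roots E6 → E7 with node map [0, 1, 2, 3, 4, 5] -/
noncomputable def morE67 : Morph chevE6 chevE7 1 :=
  mkMorph goodE6 goodE7 bridgeE6 bridgeE7 (slE6 _) (slE7 _)
    0x7773706e6d6a686765646361605f5e5d5a585755545351504f4e4c4b4a494746454342403d3b3a383736343332312f2e2d2c2a2928262523201f1e1d1c1a1918161513100f0d0a06
    0x4700000046000045004443000042004140003f3e3d003c3b3a3938000037003635003433320031302f2e002d2c2b2a00292827002625002400002300222100201f1e001d1c1b1a001918171600151413001211001000000f0e0d0c0b000a0908000706000500000403000200000100000000000000000000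
    0x0
    (by decide +kernel) (by decide +kernel)

lemma morE67_simple : ∀ i < 6, morE67.ρ (chevE6.simple i) = chevE7.simple ([0, 1, 2, 3, 4, 5].getD i 0) ∧
    morE67.ε (chevE6.simple i) = 1 := by decide +kernel

lemma morE67_e (r : ℕ) : morE67.e r = 1 := rfl

lemma pairB2 : ∀ r < chevB2.nroots, ∀ s < chevB2.nroots, s ≠ r → s ≠ chevB2.neg r →
    PairOK chevB2 chevB2 2 (getW 8 256 0x607040502030001) (fun _ => 1) (getW 2 4 0x6969) r s := by
  decide +kernel

/-- the symmetry of type B2 in characteristic 2 -/
def morB2 : Morph chevB2 chevB2 2 where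
  ρ := getW 8 256 0x607040502030001
  ρ' := getW 8 256 0x607040502030001
  ε := fun _ => 1
  e := getW 2 4 0x6969
  hp := Or.inr (by norm_num)
  ok := by decide +kernel
  pair := pairB2

lemma morB2_simple : ∀ i < 2, morB2.ρ (chevB2.simple i) = chevB2.simple ([(1, 2), (0, 1)].getD i (0, 1)).1 ∧
    morB2.e (chevB2.simple i) = ([(1, 2), (0, 1)].getD i (0, 1)).2 := by decide +kernel

lemma morB2_ε (r : ℕ) : morB2.ε r = 1 := rfl

lemma pairG2 : ∀ r < chevG2.nroots, ∀ s < chevG2.nroots, s ≠ r → s ≠ chevG2.neg r →
    PairOK chevG2 chevG2 3 (getW 8 256 0x9080b0a0607040501000302) (fun _ => 1) (getW 2 4 0x5fd7f5) r s := by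
  decide +kernel

/-- the symmetry of type G2 in characteristic 3 -/
def morG2 : Morph chevG2 chevG2 3 where
  ρ := getW 8 256 0x9080b0a0607040501000302
  ρ' := getW 8 256 0x9080b0a0607040501000302
  ε := fun _ => 1
  e := getW 2 4 0x5fd7f5
  hp := Or.inr (by norm_num)
  ok := by decide +kernel
  pair := pairG2

lemma morG2_simple : ∀ i < 2, morG2.ρ (chevG2.simple i) = chevG2.simple ([(1, 3), (0, 1)].getD i (0, 1)).1 ∧
    morG2.e (chevG2.simple i) = ([(1, 3), (0, 1)].getD i (0, 1)).2 := by decide +kernel

lemma morG2_ε (r : ℕ) : morG2.ε r = 1 := rfl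

lemma pairF4 : ∀ r < chevF4.nroots, ∀ s < chevF4.nroots, s ≠ r → s ≠ chevF4.neg r →
    PairOK chevF4 chevF4 2 (getW 8 256 0x2c28272f26241d2e2d2b202a1f1a1825231c291e19221b210e140d161106130c0a171510050f040201120b0900080703) (fun _ => 1) (getW 2 4 0x5656aaa95a9556a56aaa9595) r s := by
  decide +kernel

/-- the symmetry of type F4 in characteristic 2 -/
def morF4 : Morph chevF4 chevF4 2 where
  ρ := getW 8 256 0x2c28272f26241d2e2d2b202a1f1a1825231c291e19221b210e140d161106130c0a171510050f040201120b0900080703
  ρ' := getW 8 256 0x2c28272f26241d2e2d2b202a1f1a1825231c291e19221b210e140d161106130c0a171510050f040201120b0900080703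
  ε := fun _ => 1
  e := getW 2 4 0x5656aaa95a9556a56aaa9595
  hp := Or.inr (by norm_num)
  ok := by decide +kernel
  pair := pairF4

lemma morF4_simple : ∀ i < 4, morF4.ρ (chevF4.simple i) = chevF4.simple ([(3, 2), (2, 2), (1, 1), (0, 1)].getD i (0, 1)).1 ∧
    morF4.e (chevF4.simple i) = ([(3, 2), (2, 2), (1, 1), (0, 1)].getD i (0, 1)).2 := by decide +kernel

lemma morF4_ε (r : ℕ) : morF4.ε r = 1 := rfl

end Cfsg.Agent.H14
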