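import Cfsg.Agent.H10.Comp

/-! Pointwise stabilisers in alternating groups. -/

set_option autoImplicit false

namespace Cfsg.Agent.H14.AltStd

open Equiv Subgroup
open scoped Pointwise

variable {α : Type*} [Fintype α] [DecidableEq α]

/-- even permutations supported on `s` -/
def R (s : Finset α) : Subgroup (alternatingGroup α) := (alternatingGroup.ofSubtype s).range

lemma mem_R {s : Finset α} {g : alternatingGroup α} : g ∈ R s ↔ ∀ x, x ∉ s → g.1 x = x := by
  rw [R, alternatingGroup.mem_range_ofSubtype_iff]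
  exact ⟨fun h x hx => by_contra fun k => hx (h (Perm.mem_support.2 k)),
    fun h x hx => by_contra fun k => Perm.mem_support.1 hx (h x k)⟩

lemma map_conj (s : Finset α) (g : alternatingGroup α) :
    (R s).map (MulAut.conj g).toMonoidHom = R (g • s) :=
  alternatingGroup.conj_smul_range_ofSubtype s g

lemma exists_tri {s : Finset α} {x y z : α} (hx : x ∈ s) (hy : y ∈ s) (hz : z ∈ s) (h1 : x ≠ y)
    (h2 : x ≠ z) (h3 : y ≠ z) :
    ∃ c ∈ R s, c.1 x = z ∧ ∀ w, w ≠ x → w ≠ y → w ≠ z → c.1 w = w := by
  have k : ∀ w, w ≠ x → w ≠ y → w ≠ z → (swap x y * swap x z) w = w := fun w a b c => by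
    simp [swap_apply_of_ne_of_ne, a, b, c]
  refine ⟨⟨swap x y * swap x z, (Perm.isThreeCycle_swap_mul_swap_same h1 h2 h3).mem_alternatingGroup⟩,
    mem_R.2 fun w hw => k w (by rintro rfl; exact hw hx) (by rintro rfl; exact hw hy)
      (by rintro rfl; exact hw hz), ?_, k⟩
  simp [swap_apply_of_ne_of_ne h2.symm h3.symm]

lemma exists_two {s : Finset α} (t : Finset α) (h : t.card + 2 ≤ s.card) :
    ∃ y ∈ s, ∃ z ∈ s, y ≠ z ∧ y ∉ t ∧ z ∉ t := by
  have : 1 < (s \ t).card := by have := Finset.le_card_sdiff t s; omega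
  obtain ⟨y, hy, z, hz, e⟩ := Finset.one_lt_card.1 this
  rw [Finset.mem_sdiff] at hy hz
  exact ⟨y, hy.1, z, hz.1, e, hy.2, hz.2⟩

lemma subset_of_le {s t : Finset α} (hs : 3 ≤ s.card) (h : R s ≤ R t) : s ⊆ t := by
  intro x hx
  obtain ⟨y, hy, z, hz, e, h1, h2⟩ := exists_two (s := s) {x} (by simpa using hs)
  rw [Finset.mem_singleton] at h1 h2
  obtain ⟨c, hc, k, -⟩ := exists_tri hx hy hz (Ne.symm h1) (Ne.symm h2) e
  by_contra hx'
  exact h2 (k.symm.trans (mem_R.1 (h hc) x hx'))

lemma centralizer_R {s : Finset α} (hs : 4 ≤ s.card) :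
    centralizer (R s : Set (alternatingGroup α)) = R sᶜ := by
  ext g
  rw [mem_centralizer_iff, mem_R]
  constructor
  · intro h x hx
    rw [Finset.mem_compl, not_not] at hx
    by_contra hg
    obtain ⟨y, hy, z, hz, e, h1, h2⟩ := exists_two (s := s) {x, g.1 x}
      (by have := Finset.card_le_two (a := x) (b := g.1 x); omega)
    simp only [Finset.mem_insert, Finset.mem_singleton, not_or] at h1 h2
    obtain ⟨c, hc, k, k'⟩ := exists_tri hx hy hz (Ne.symm h1.1) (Ne.symm h2.1) e
    have := congrArg (fun u : alternatingGroup α => u.1 x) (h c hc)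
    simp only [coe_mul, Perm.mul_apply, k, k' _ hg (Ne.symm h1.2) (Ne.symm h2.2)] at this
    exact h2.1 (g.1.injective this).symm
  · intro h c hc
    refine Subtype.ext (Perm.Disjoint.commute fun x => ?_)
    by_cases hx : x ∈ s
    · exact Or.inr (h x (by simpa using hx))
    · exact Or.inl (mem_R.1 hc x hx)

lemma mem_normalizer_R {s : Finset α} (hs : 3 ≤ s.card) {g : alternatingGroup α} :
    g ∈ normalizer (R s : Set (alternatingGroup α)) ↔ g • s = s := by
  rw [← conjAct_pointwise_smul_iff]
  show (R s).map (MulAut.conj g).toMonoidHom = R s ↔ _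
  rw [map_conj]
  refine ⟨fun h => ?_, fun h => by rw [h]⟩
  exact (Finset.eq_of_subset_of_card_le (subset_of_le hs h.ge) (by simp)).symm

lemma R_inf (s t : Finset α) : R s ⊓ R t = R (s ∩ t) := by
  ext g
  simp only [mem_inf, mem_R, Finset.mem_inter, not_and_or]
  exact ⟨fun h x hx => hx.elim (h.1 x) (h.2 x), fun h => ⟨fun x hx => h x (.inl hx),
    fun x hx => h x (.inr hx)⟩⟩

lemma card_R (s : Finset α) : Nat.card (R s) = Nat.card (alternatingGroup s) :=
  (Nat.card_congr (MonoidHom.ofInjective alternatingGroup.ofSubtype_injective).toEquiv).symm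

lemma two_mul_card_R {s : Finset α} (hs : 2 ≤ s.card) : 2 * Nat.card (R s) = s.card.factorial := by
  have : Nontrivial s := Fintype.one_lt_card_iff_nontrivial.1 (by rw [Fintype.card_coe]; exact hs)
  rw [card_R, two_mul_nat_card_alternatingGroup, Nat.card_perm]
  simp

lemma odd_card_R {s : Finset α} (hs : s.card ≤ 3) : Odd (Nat.card (R s)) := by
  by_cases h : 2 ≤ s.card
  · have := two_mul_card_R h
    obtain h | h : s.card = 2 ∨ s.card = 3 := by omega
    · rw [h] at this
      exact ⟨0, by simp only [Nat.factorial] at this; omega⟩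
    · rw [h] at this
      exact ⟨1, by simp only [Nat.factorial] at this; omega⟩
  · have : Subsingleton s := Fintype.card_le_one_iff_subsingleton.1 (by simpa using by omega)
    rw [card_R, Nat.card_unique]
    exact odd_one

lemma smul_compl (g : alternatingGroup α) (s : Finset α) : g • sᶜ = (g • s)ᶜ := by
  ext x
  simp [← Finset.inv_smul_mem_iff]

theorem standard {T : Finset α} (hT : T.card = 4) (h : 5 ≤ Tᶜ.card) :
    IsStandardSubgroup (R Tᶜ) := by
  have hc : centralizer (R Tᶜ : Set (alternatingGroup α)) = R T := by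
    rw [centralizer_R (by omega), compl_compl]
  have hne : ∀ g : alternatingGroup α, ⁅R Tᶜ, R (g • Tᶜ)⁆ ≠ ⊥ := by
    intro g e
    rw [commutator_comm, commutator_eq_bot_iff_le_centralizer, hc] at e
    have := Finset.card_le_card (subset_of_le (by simp only [Finset.card_smul_finset]; omega) e)
    rw [Finset.card_smul_finset] at this
    omega
  refine ⟨?_, ?_, fun g _ => ?_, ?_⟩
  · have : IsSimpleGroup (R Tᶜ) := by
      have := alternatingGroup.isSimpleGroup (α := (Tᶜ : Finset α))
        (by rw [Nat.card_eq_fintype_card, Fintype.card_coe]; exact h)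
      exact (MonoidHom.ofInjective alternatingGroup.ofSubtype_injective).symm.isSimpleGroup
    refine H10.isQuasisimple_of_simple fun hh => hne 1 ?_
    rw [one_smul, commutator_eq_bot_iff_le_centralizer]
    intro x hx y hy
    exact congrArg Subtype.val (hh.1.1 ⟨y, hy⟩ ⟨x, hx⟩)
  · rw [hc]
    refine ⟨⟨6, ?_⟩, fun g hg => ?_⟩
    · have := two_mul_card_R (s := T) (by omega)
      rw [hT] at this
      simp only [Nat.factorial] at this
      omega
    · rw [mem_normalizer_R (by omega)] at hg
      rw [map_conj, R_inf]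
      refine odd_card_R (Nat.le_of_lt_succ (lt_of_lt_of_eq (Finset.card_lt_card ?_) hT))
      refine ⟨Finset.inter_subset_left, fun k => hg ?_⟩
      exact (Finset.eq_of_subset_of_card_le (k.trans Finset.inter_subset_right) (by simp)).symm
  · rw [map_conj]
    exact hne g
  · rw [hc]
    ext g
    rw [mem_normalizer_R (by omega), mem_normalizer_R (by omega), smul_compl, compl_inj_iff]

end Cfsg.Agent.H14.AltStd
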