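import Mathlib

/-! Divisibility checks for the degrees of representations of the groups of types `E₆` and `E₈`. -/

set_option autoImplicit false

namespace Cfsg.Agent.H14.Dg

theorem dvd_red {p m a d j u N M : ℕ} (hp : p.Prime) (ha : a = p ^ m) (h : d + j = a * u) (hj : 0 < j) (hj' : j < a)
    (hd : d ∣ a ^ N * M) : d ∣ j * M := by
  obtain ⟨k, -, hk⟩ := (Nat.dvd_prime_pow hp).1 ((Nat.gcd_dvd_right d (a ^ N)).trans (by rw [ha, ← pow_mul]))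
  have h1 : ∀ {g}, g ∣ d → g ∣ a → g ∣ j := fun a b => (Nat.dvd_add_right a).1 (h ▸ b.mul_right u)
  refine (Nat.dvd_gcd_mul_iff_dvd_mul.2 hd).trans (Nat.mul_dvd_mul_right (h1 (Nat.gcd_dvd_left _ _) ?_) M)
  rcases le_total k m with c | c
  · rw [hk, ha]; exact pow_dvd_pow p c
  · refine absurd (Nat.le_of_dvd hj (h1 (Dvd.dvd.trans ?_ (Nat.gcd_dvd_left d (a ^ N))) dvd_rfl)) hj'.not_ge
    rw [hk, ha]; exact pow_dvd_pow p c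

theorem small_spec {P : ℕ → ℕ → Prop} [∀ a j, Decidable (P a j)] {G D : ℕ → ℕ} {r B a d j : ℕ}
    (h : ((List.range B).all fun x => (List.range 100).all fun y => (List.range r).all fun i =>
      100 * x + y < 2 || G (100 * x + y) % (D (100 * x + y) - (i + 1)) != 0 || P (100 * x + y) (i + 1)) = true)
    (h2 : 2 ≤ a) (c : a < B * 100) (hj : 0 < j) (hj' : j ≤ r) (e : d + j = D a) (hd : d ∣ G a) : P a j := by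
  simp only [List.all_eq_true, List.mem_range] at h
  have := h (a / 100) (by omega) (a % 100) (by omega) (j - 1) (by omega)
  rw [Nat.div_add_mod, Nat.sub_add_cancel hj, ← e] at this
  simpa [Nat.mod_eq_zero_of_dvd hd, h2.not_gt] using this

theorem abs_ev {a C : ℤ} (h : 2 ≤ a) (l : List ℤ) (hl : ∀ x ∈ l, |x| ≤ C) (hC : 0 ≤ C) :
    a * |l.foldr (fun c s => c + a * s) 0| ≤ 2 * C * (a ^ l.length - 1) := by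
  induction l with
  | nil => simp
  | cons c l ih =>
    have h1 := ih fun x hx => hl x (List.mem_cons_of_mem _ hx)
    have h2 := hl c List.mem_cons_self
    have h3 := abs_add_le c (a * l.foldr (fun c s => c + a * s) 0)
    rw [abs_mul, abs_of_nonneg (by omega : 0 ≤ a)] at h3
    rw [List.foldr_cons, List.length_cons, pow_succ]
    nlinarith

theorem not_dvd_ev {B C c a d : ℤ} (l : List ℤ) (h : B ≤ a) (h2 : 2 ≤ B ∧ 0 ≤ C ∧ 2 * C ≤ 100 * B) (hl : ∀ x ∈ l, |x| ≤ C)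
    (h3 : 2 * C < c * B) (h4 : c + 100 < B) (hd : a ^ (l.length + 1) ≤ d) :
    ¬ d ∣ c * a ^ l.length + l.foldr (fun c s => c + a * s) 0 := fun e => by
  have h5 := abs_ev (h2.1.trans h) l hl h2.2.1
  generalize l.foldr (fun c s => c + a * s) 0 = S at *
  have h6 : 0 < a ^ l.length := pow_pos (by omega) _
  rw [pow_succ] at hd
  generalize a ^ l.length = A at *
  have h7 := mul_le_mul_of_nonneg_left (le_abs_self S) (by omega : 0 ≤ a)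
  have h8 := mul_le_mul_of_nonneg_left (neg_abs_le S) (by omega : 0 ≤ a)
  have h9 : 0 < c := by nlinarith
  have h10 : 2 * C * A < c * a * A := mul_lt_mul_of_pos_right (by nlinarith) h6
  have := Int.le_of_dvd ((mul_pos_iff_of_pos_left (by omega : 0 < a)).1 (by nlinarith)) e
  have h11 : 2 * C * A ≤ 100 * a * A := mul_le_mul_of_nonneg_right (by omega) h6.le
  have h12 : a * S ≤ a * (100 * A) := by nlinarith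
  have := le_of_mul_le_mul_left h12 (by omega)
  nlinarith

theorem large_E8 {a j : ℤ} (c : 20000 ≤ a) (hj : 0 < j) (hj' : j ≤ 8) : ¬ a * (a ^ 12 + 1) * (a ^ 10 + 1) * (a ^ 6 + 1) - j ∣
    j * ((a ^ 2 - 1) * (a ^ 8 - 1) * (a ^ 12 - 1) * (a ^ 14 - 1) * (a ^ 18 - 1) * (a ^ 20 - 1) * (a ^ 24 - 1) * (a ^ 30 - 1)) := fun e => by
  refine not_dvd_ev (B := 20000) (C := 288264) (c := 36 * j ^ 3 - j) [-9 * j ^ 5 + 13 * j ^ 3 - j, -3 * j ^ 4 - 12 * j ^ 2, 3 * j ^ 5 + 24 * j ^ 3, 5 * j ^ 4 - 12 * j ^ 2, 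
      -3 * j ^ 5 + 2 * j ^ 3, -26 * j ^ 4 - 9 * j ^ 2, 4 * j ^ 5 + 32 * j ^ 3 - j, 3 * j ^ 4 - 16 * j ^ 2, 11 * j ^ 3, 
      -25 * j ^ 4 - 9 * j ^ 2, j ^ 5 + 4 * j ^ 3 - j, 18 * j ^ 4 - 13 * j ^ 2, -j ^ 5 + 25 * j ^ 3 - j, 
      -4 * j ^ 4 - 20 * j ^ 2, 2 * j ^ 3, 14 * j ^ 4 - 9 * j ^ 2, 26 * j ^ 3 - j, 6 * j ^ 4 - 13 * j ^ 2, 36 * j ^ 3 - j, 
      14 * j ^ 4 - 16 * j ^ 2, 31 * j ^ 3, -3 * j ^ 4 - 5 * j ^ 2, 29 * j ^ 3 - j, 13 * j ^ 4 - 8 * j ^ 2, 48 * j ^ 3, 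
      -13 * j ^ 4, 10 * j ^ 3, 2 * j ^ 4 + 7 * j ^ 2] c (by norm_num) ?_ ?_ ?_ ?_
    ((dvd_sub (dvd_mul_right _ (j * (a ^ 99 - a ^ 97 - a ^ 93 + a ^ 85 + a ^ 83 + a ^ 79 - a ^ 75 - 2 * a ^ 71 + a ^ 70 * j - a ^ 69 - a ^ 68 * j - 2 * a ^ 64 * j
      + a ^ 63 + a ^ 62 * j + a ^ 61 - a ^ 60 * j + 2 * a ^ 58 * j + 2 * a ^ 57 + a ^ 56 * j - a ^ 55 + 3 * a ^ 54 * j - a ^ 52 * j
      + a ^ 50 * j - 2 * a ^ 49 - 3 * a ^ 48 * j - a ^ 46 * j - 5 * a ^ 44 * j - a ^ 43 - a ^ 42 * j + a ^ 41 * j ^ 2 + 2 * a ^ 41 - 3 * a ^ 40 * j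
      - a ^ 39 * j ^ 2 + 4 * a ^ 38 * j + a ^ 37 + 3 * a ^ 36 * j - 3 * a ^ 35 * j ^ 2 + a ^ 35 + 8 * a ^ 34 * j + 2 * a ^ 33 * j ^ 2
      + 3 * a ^ 32 * j - 2 * a ^ 31 * j ^ 2 + 4 * a ^ 30 * j + 5 * a ^ 29 * j ^ 2 - a ^ 29 - 3 * a ^ 28 * j - 2 * a ^ 27 - 5 * a ^ 26 * j
      + 7 * a ^ 25 * j ^ 2 - 9 * a ^ 24 * j - 5 * a ^ 23 * j ^ 2 - a ^ 23 - 5 * a ^ 22 * j + 2 * a ^ 21 * j ^ 2 - 7 * a ^ 20 * j - 11 * a ^ 19 * j ^ 2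
      + a ^ 19 + a ^ 18 * j + a ^ 17 * j ^ 2 + 3 * a ^ 16 * j - 14 * a ^ 15 * j ^ 2 + a ^ 15 + 11 * a ^ 14 * j + 7 * a ^ 13 * j ^ 2
      + a ^ 13 + a ^ 12 * j ^ 3 + 9 * a ^ 12 * j - 7 * a ^ 11 * j ^ 2 - a ^ 10 * j ^ 3 + 10 * a ^ 10 * j + 22 * a ^ 9 * j ^ 2 + 3 * a ^ 8 * j
      + 2 * a ^ 7 * j ^ 2 - 4 * a ^ 6 * j ^ 3 - 3 * a ^ 6 * j + 29 * a ^ 5 * j ^ 2 - a ^ 5 + 3 * a ^ 4 * j ^ 3 - 10 * a ^ 4 * j - 8 * a ^ 3 * j ^ 2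
      - 3 * a ^ 2 * j ^ 3 - 12 * a ^ 2 * j + 12 * a * j ^ 2 - a + 9 * j ^ 3 - 13 * j))) e).trans (dvd_of_eq (by simp only [List.foldr, List.length]; ring)))
  · interval_cases j <;> decide
  · interval_cases j <;> norm_num
  · interval_cases j <;> norm_num
  · have : 0 < a := by omega
    simp only [List.length]
    rw [← sub_nonneg, show a * (a ^ 12 + 1) * (a ^ 10 + 1) * (a ^ 6 + 1) - j - a ^ (0 + 1 + 1 + 1 + 1 + 1 + 1 + 1 + 1 + 1 + 1 + 1 + 1 + 1 + 1 + 1 + 1 + 1 + 1 + 1 + 1 + 1 + 1 + 1 + 1 + 1 + 1 + 1 + 1 + 1) = a - j + (a ^ 23 + a ^ 19 + a ^ 17 + a ^ 13 + a ^ 11 + a ^ 7) by ring]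
    exact add_nonneg (by omega) (by positivity)

theorem arith_E8 {p m a d j : ℕ} (hp : p.Prime) (ha : a = p ^ m) (h2 : 2 ≤ a) (hj : 0 < j) (hj' : j ≤ 8)
    (h : d + j = a * (a ^ 12 + 1) * (a ^ 10 + 1) * (a ^ 6 + 1)) (hd : d ∣ a ^ 120 * ((a ^ 2 - 1) * (a ^ 8 - 1) * (a ^ 12 - 1) * (a ^ 14 - 1) * (a ^ 18 - 1) * (a ^ 20 - 1) * (a ^ 24 - 1) * (a ^ 30 - 1))) : False := by
  by_cases c : a < 20000
  · exact small_spec (P := fun a j => False) (G := fun a => a ^ 120 * ((a ^ 2 - 1) * (a ^ 8 - 1) * (a ^ 12 - 1) * (a ^ 14 - 1) * (a ^ 18 - 1) * (a ^ 20 - 1) * (a ^ 24 - 1) * (a ^ 30 - 1)))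
      (D := fun a => a * (a ^ 12 + 1) * (a ^ 10 + 1) * (a ^ 6 + 1)) (r := 8) (B := 200) (by decide +kernel) h2 c hj hj' h hd
  have h1 : ∀ k, 1 ≤ a ^ k := fun k => Nat.one_le_pow _ _ (by omega)
  have e := dvd_red hp ha (h.trans (by rw [mul_assoc, mul_assoc])) hj (by omega) hd
  zify [h1] at e h
  exact absurd (eq_sub_of_add_eq h ▸ e) (large_E8 (by omega) (by omega) (by omega))

theorem large_E6 {a j : ℤ} (c : 4000 ≤ a) (hj : 0 < j) (hj' : j ≤ 6) : ¬ a * (a ^ 6 + a ^ 3 + 1) * (a ^ 4 + 1) - j ∣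
    j * ((a ^ 2 - 1) * (a ^ 5 - 1) * (a ^ 6 - 1) * (a ^ 8 - 1) * (a ^ 9 - 1) * (a ^ 12 - 1)) := fun e => by
  refine not_dvd_ev (B := 4000) (C := 11268) (c := 14 * j ^ 3 + 14 * j ^ 2 - j) [2 * j ^ 4 + 25 * j ^ 3 - j, -6 * j ^ 4 + 18 * j ^ 3 - 24 * j ^ 2, -10 * j ^ 4 + 11 * j ^ 3 - 19 * j ^ 2, 
      -5 * j ^ 4 + 4 * j ^ 3 - 4 * j ^ 2 - j, -2 * j ^ 4 - 14 * j ^ 3 - 19 * j ^ 2 - j, 3 * j ^ 4 - 8 * j ^ 3 - 28 * j ^ 2, 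
      3 * j ^ 4 + 6 * j ^ 3 - 13 * j ^ 2 - j, j ^ 4 + 14 * j ^ 3 - 19 * j ^ 2 - j, 20 * j ^ 3 - 27 * j ^ 2, 
      -j ^ 4 + 24 * j ^ 3 - 4 * j ^ 2] c (by norm_num) ?_ ?_ ?_ ?_
    ((dvd_sub (dvd_mul_right _ (j * (a ^ 31 - a ^ 29 - a ^ 28 - a ^ 27 + 2 * a ^ 24 + 2 * a ^ 23 + a ^ 22 + a ^ 20 * j - a ^ 20 - 3 * a ^ 19 - a ^ 18 * j - 2 * a ^ 18
      - 2 * a ^ 17 * j + a ^ 17 - 2 * a ^ 16 * j + a ^ 16 + a ^ 15 * j + 2 * a ^ 15 + 2 * a ^ 14 * j + a ^ 14 + 5 * a ^ 13 * j + a ^ 13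
      + 4 * a ^ 12 * j - 2 * a ^ 12 + a ^ 11 * j - 3 * a ^ 11 - 4 * a ^ 10 * j - a ^ 10 + a ^ 9 * j ^ 2 - 9 * a ^ 9 * j - 10 * a ^ 8 * j
      + a ^ 8 - a ^ 7 * j ^ 2 - 4 * a ^ 7 * j + 2 * a ^ 7 - 3 * a ^ 6 * j ^ 2 + 7 * a ^ 6 * j + 2 * a ^ 6 - 3 * a ^ 5 * j ^ 2 + 14 * a ^ 5 * j
      + 2 * a ^ 4 * j ^ 2 + 17 * a ^ 4 * j + 5 * a ^ 3 * j ^ 2 + 6 * a ^ 3 * j - a ^ 3 + 10 * a ^ 2 * j ^ 2 - 5 * a ^ 2 * j - a ^ 2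
      + 6 * a * j ^ 2 - 20 * a * j - a - 2 * j ^ 2 - 25 * j))) e).trans (dvd_of_eq (by simp only [List.foldr, List.length]; ring)))
  · interval_cases j <;> decide
  · interval_cases j <;> norm_num
  · interval_cases j <;> norm_num
  · have : 0 < a := by omega
    simp only [List.length]
    rw [← sub_nonneg, show a * (a ^ 6 + a ^ 3 + 1) * (a ^ 4 + 1) - j - a ^ (0 + 1 + 1 + 1 + 1 + 1 + 1 + 1 + 1 + 1 + 1 + 1) = a - j + (a ^ 8 + a ^ 7 + a ^ 5 + a ^ 4) by ring]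
    exact add_nonneg (by omega) (by positivity)

theorem arith_E6 {p m a d j : ℕ} (hp : p.Prime) (ha : a = p ^ m) (h2 : 2 ≤ a) (hj : 0 < j) (hj' : j ≤ 6)
    (h : d + j = a * (a ^ 6 + a ^ 3 + 1) * (a ^ 4 + 1)) (hd : d ∣ a ^ 36 * ((a ^ 2 - 1) * (a ^ 5 - 1) * (a ^ 6 - 1) * (a ^ 8 - 1) * (a ^ 9 - 1) * (a ^ 12 - 1))) : a = 2 ∧ j = 2 ∨ a = 4 ∧ j = 4 := by
  by_cases c : a < 4000
  · exact small_spec (P := fun a j => a = 2 ∧ j = 2 ∨ a = 4 ∧ j = 4) (G := fun a => a ^ 36 * ((a ^ 2 - 1) * (a ^ 5 - 1) * (a ^ 6 - 1) * (a ^ 8 - 1) * (a ^ 9 - 1) * (a ^ 12 - 1)))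
      (D := fun a => a * (a ^ 6 + a ^ 3 + 1) * (a ^ 4 + 1)) (r := 6) (B := 40) (by decide +kernel) h2 c hj hj' h hd
  have h1 : ∀ k, 1 ≤ a ^ k := fun k => Nat.one_le_pow _ _ (by omega)
  have e := dvd_red hp ha (h.trans (by rw [mul_assoc])) hj (by omega) hd
  zify [h1] at e h
  exact absurd (eq_sub_of_add_eq h ▸ e) (large_E6 (by omega) (by omega) (by omega))

end Cfsg.Agent.H14.Dg
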