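import Cfsg.Agent.H14.SS5

/-! Involutions in odd characteristic. -/

set_option autoImplicit false

namespace Cfsg.Agent.H14

open Finset Matrix Cfsg.Lie Cfsg.Lie.ChevalleyDatum

lemma RS.exists_rep_two {ι Φ : Type} [Fintype ι] [DecidableEq ι] [Finite Φ] (R : RS ι Φ) {θ : Φ} (h2 : ∀ j, 2 ≤ R.vec θ j) (v : ι → ℤ) :
    ∃ w ∈ R.W, ∃ y : ι → ℤ, v ᵥ* R.mat w + (2 : ℤ) • y = 0 ∨ ∃ j, R.vec θ j = 2 ∧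
      ∀ i, R.ev (R.simple i) (v ᵥ* R.mat w + (2 : ℤ) • y) = if i = j then 1 else 0 := by
  have := Fintype.ofFinite Φ
  obtain ⟨w, hw, y, h⟩ := R.exists_alcove two_pos v
  refine ⟨w, hw, y, or_iff_not_imp_left.2 fun h0 => ?_⟩
  generalize v ᵥ* R.mat w + (2 : ℤ) • y = u at *
  obtain ⟨j, hj⟩ := not_forall.1 (mt R.ev_inj h0)
  have a1 := fun i => (h _ (R.pos_simple i)).1
  have a2 := (h θ fun j => zero_le_two.trans (h2 j)).2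
  have a3 := fun i => mul_nonneg (zero_le_two.trans (h2 i)) (a1 i)
  rw [R.ev_eq_sum, ← add_sum_erase _ _ (mem_univ j)] at a2
  have a4 := sum_nonneg fun i (_ : i ∈ univ.erase j) => a3 i
  have a5 := (a1 j).lt_of_ne' hj
  have a6 := h2 j
  have a7 : R.ev (R.simple j) u = 1 := by nlinarith
  refine ⟨j, by nlinarith, fun i => ?_⟩
  split_ifs with e
  · exact e ▸ a7
  · have := single_le_sum (fun i (_ : i ∈ univ.erase j) => a3 i) (mem_erase.2 ⟨e, mem_univ i⟩)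
    nlinarith [h2 i, a1 i]

lemma ncard_fin (n : ℕ) (p : ℕ → Prop) [DecidablePred p] :
    ({r : Fin n | p r}.ncard : ℤ) = sumN n fun r => bite (decide (p r)) 1 0 := by
  simp [sumN_eq, bite_eq, Set.ncard_eq_toFinset_card']

variable {D : ChevalleyDatum} (G : Good D) {T : Tab} (B : Bridge D T)

/-- values of roots from the tables -/
noncomputable def Tab.ev (T : Tab) (l : ℕ) (e : List ℤ) (r : ℕ) : ℤ := sumN l fun i => e.getD i 0 * T.car i r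

include B in
lemma Bridge.ev_eq (e : List ℤ) (r : Fin D.nroots) : T.ev D.rank e r = G.R.ev r fun i => e.getD i 0 := by
  simp [Tab.ev, sumN_eq, RS.ev_apply, B.car_eq' G]

/-- the check for a base of the subsystem of even roots -/
noncomputable def baseChk (T : Tab) (n l : ℕ) (ρ e : List ℤ) (m : ℕ) (β : List ℕ) (M : ℕ → ℕ → ℕ) (N : ℕ) : Bool :=
  band (allN l fun i => decide (0 < T.ev l ρ (T.sim i))) <|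
  band (allN m fun k => decide (β.getD k 0 < n ∧ 2 ∣ T.ev l e (β.getD k 0) ∧ 0 < T.ev l ρ (β.getD k 0) ∧ M k k = 1)) <|
  band (allN n fun r => bimp (decide (2 ∣ T.ev l e r ∧ 0 < T.ev l ρ r)) <| band (anyN m fun k => decide (0 < T.pr l (β.getD k 0) r)) <|
    allN m fun k => decide (r = β.getD k 0 ∨ T.pr l (β.getD k 0) r * T.ev l ρ (β.getD k 0) < T.ev l ρ r)) <|
  band (allN m fun i => allN m fun j => decide (i ≠ j → M i j ≠ 1 ∧ T.pr l (β.getD i 0) (β.getD j 0) < 2 ∧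
    CoxChk (T.pr l (β.getD i 0) (β.getD j 0)) (T.pr l (β.getD j 0) (β.getD i 0)) (M i j))) <|
  band (ibeq (sumN n fun r => bite (decide (2 ∣ T.ev l e r ∧ 0 < T.ev l ρ r)) 1 0) N)
    (ibeq (sumN n fun r => bite (decide (2 ∣ T.ev l e r)) 1 0) (2 * N))

variable (F : Type*) [Field F]

/-- a diagonal element with entries `±1` -/
noncomputable def Good.sg (e : Fin D.rank → ℤ) : D.group F := (G.rgD F).torX (G.rgD_hmul F) fun i => (-1) ^ e i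

variable {F} [Fintype F] (hF : Odd (Fintype.card F))

include hF in
lemma neg_one_zpow_eq {K : Type*} [Field K] [Algebra F K] {a : ℤ} : (-1 : Kˣ) ^ a = 1 ↔ 2 ∣ a := by
  rw [← orderOf_dvd_iff_zpow_eq_one, orderOf_eq_prime (p := 2) (by simp) fun h => ?_]; rfl
  have h1 : ringChar F ≠ 2 := fun h => by have := FiniteField.even_card_of_char_two h; have := Nat.odd_iff.1 hF; omega
  exact Ring.neg_one_ne_one_of_char_ne_two h1 ((algebraMap F K).injective (by simpa using congrArg Units.val h))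

include B hF in
open H15.Geo in
theorem card_cent_sg (hc : HasCenter G.R.car 0 1) {ρ e : List ℤ} {m N : ℕ} {β : List ℕ} {A : List (List ℤ)} {d : List ℤ}
    {P : List (List ℤ)} {M : ℕ → ℕ → ℕ} {c : List (Fin m × List (List (Fin m)))} {L : List (List ℕ)}
    (h0 : baseChk T D.nroots D.rank ρ e m β M N = true) (h1 : modelOK m A d P M = true) (h2 : chainOK m A c = true)
    (h3 : decide ((∀ i, i ∈ c.map Prod.fst) ∧ c.map (fun p => p.2.map List.length) = L) = true) :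
    {r | G.R.chi (fun i => (-1 : Fˣ) ^ e.getD i 0) r = 1}.ncard = 2 * N ∧
    Nat.card (Subgroup.centralizer {G.sg F fun i => e.getD i 0}) = Fintype.card F ^ N * (Fintype.card F - 1) ^ D.rank *
      (L.map fun l => (l.map fun k => Fintype.card F ^ k).sum).prod := by
  simp only [baseChk, band_iff, allN_iff, anyN_iff, bimp_iff, decide_eq_true_eq, ibeq_iff, ← ncard_fin, B.ev_eq G] at h0 h3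
  obtain ⟨a1, a2, a3, a4, a5, a6⟩ := h0
  have b1 : ∀ r, G.R.pos r ↔ 0 < G.R.ev r fun i => ρ.getD i 0 := by
    have : ∀ r, G.R.pos r → 0 < G.R.ev r fun i => ρ.getD i 0 := fun r hr => by
      have b : ∀ j, 0 < G.R.ev (G.R.simple j) fun i => ρ.getD i 0 := fun j => by
        rw [← B.ev_eq G, G.simple_eq, B.sim_eq j j.2]; exact a1 j j.2
      obtain ⟨j, hj, -⟩ := hr.exists_ap_pos
      rw [G.R.ev_eq_sum]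
      exact sum_pos' (fun j _ => mul_nonneg (hr j) (b j).le) ⟨j, mem_univ _, mul_pos hj (b j)⟩
    refine fun r => ⟨this r, fun h => by_contra fun h' => ?_⟩
    have := this _ ((G.R.pos_neg_iff_not r).2 h')
    rw [G.R.ev_neg] at this; omega
  have b2 : ∀ r, G.R.chi (fun i => (-1 : Fˣ) ^ e.getD i 0) r = 1 ↔ 2 ∣ G.R.ev r fun i => e.getD i 0 := fun r => by
    rw [G.R.chi_zpow, neg_one_zpow_eq hF]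
  let b : Fin m → Fin D.nroots := fun k => ⟨β.getD k 0, (a2 k k.2).1⟩
  have b3 : ∀ k : Fin m, β.getD k 0 = b k := fun _ => rfl
  have b4 : G.R.Base {r | G.R.chi (fun i => (-1 : Fˣ) ^ e.getD i 0) r = 1} b := by
    simp only [b2]
    have b5 : ∀ k, 2 ∣ G.R.ev (b k) fun i => e.getD i 0 := fun k => B.ev_eq G e _ ▸ (a2 k k.2).2.1
    refine ⟨b5, fun k => (b1 _).2 (B.ev_eq G ρ _ ▸ (a2 k k.2).2.2.1), fun k r hr => ?_, fun k r hr hp hn => ?_, fun r hr hp => ?_⟩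
    · rw [Set.mem_ofPred_eq, G.R.ev_refl]; exact dvd_sub hr ((b5 k).mul_left _)
    · have := (a3 r r.2 (by rw [B.ev_eq G, B.ev_eq G]; exact ⟨hr, (b1 r).1 hp⟩)).2 k k.2
      rw [b3, B.ev_eq G, B.ev_eq G, B.pr_eq G] at this
      rw [b1, G.R.ev_refl, sub_pos]
      exact this.resolve_left fun h => hn (Fin.ext h)
    · obtain ⟨k, hk, h⟩ := (a3 r r.2 (by rw [B.ev_eq G, B.ev_eq G]; exact ⟨hr, (b1 r).1 hp⟩)).1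
      exact ⟨⟨k, hk⟩, by rwa [b3 ⟨k, hk⟩, B.pr_eq G] at h⟩
  have := Fintype.ofFinite (Subgroup.closure (Set.range fun k => G.R.rP (b k)))
  refine ⟨by simp only [b2]; exact_mod_cast a6, ?_⟩
  rw [Good.sg, (G.rgD F).card_centralizer _ (G.rgD_top F) (G.torX_rgD_injective hc (.inl rfl)) _ b4, b4.sum_invs h1 h2 h3.1
    (fun i => (a2 i i.2).2.2.2) fun i j h => by simpa only [b3, B.pr_eq G] using a4 i i.2 j j.2 (Fin.val_ne_of_ne h), ← h3.2]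
  simp only [b1, b2, Nat.cast_inj.1 a5, Nat.card_eq_fintype_card, Fintype.card_fin, List.map_map, Function.comp_def]

omit [Fintype F] in
lemma Good.ncard_eq_of_isConj {c c' : Fin D.rank → Fˣ} (h : IsConj ((G.rgD F).torX (G.rgD_hmul F) c) ((G.rgD F).torX (G.rgD_hmul F) c')) :
    {r | G.R.chi c r = 1}.ncard = {r | G.R.chi c' r = 1}.ncard := by
  obtain ⟨g, hg⟩ := isConj_iff.1 h
  obtain ⟨n, hn, e⟩ := (G.rgD F).conj_H_of_conj ((G.rgD F).torX_mem_H _ c) ((G.rgD F).torX_mem_H _ c')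
    (G.rgD_top F ▸ Subgroup.mem_top g) hg
  obtain ⟨w, hw⟩ := (G.rgD F).exists_rep hn
  rw [← Set.ncard_preimage_of_injective_subset_range w.injective (s := {r | G.R.chi c' r = 1}) (by simp [w.surjective.range_eq])]
  simp [(G.rgD F).chi_rep _ hw e]

include hF in
lemma Good.orderOf_sg (hc : HasCenter G.R.car 0 1) {e : Fin D.rank → ℤ} {i : Fin D.rank} (h : ¬ 2 ∣ e i) : orderOf (G.sg F e) = 2 :=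
  orderOf_eq_prime (by
    rw [Good.sg, ← map_pow, map_eq_one_iff _ (G.torX_rgD_injective hc (.inl rfl))]
    exact funext fun i => by rw [Pi.pow_apply, ← zpow_natCast, ← _root_.zpow_mul, Pi.one_apply, neg_one_zpow_eq hF]; simp)
    fun h' => h ((neg_one_zpow_eq hF).1 (congrFun ((map_eq_one_iff _ (G.torX_rgD_injective hc (.inl rfl))).1 h') i))

include B hF in
theorem exists_conj_sg (hs : StData D) (hc : HasCenter G.R.car 0 1) {θ : ℕ} {m : List ℤ} {ω : List (List ℤ)}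
    (h : decide (θ < D.nroots ∧ ∀ j < D.rank, 2 ≤ m.getD j 0 ∧ T.car j θ = sumN D.rank (fun i => T.car j (T.sim i) * m.getD i 0) ∧
      (m.getD j 0 = 2 → ∃ e ∈ ω, ∀ i < D.rank, T.ev D.rank e (T.sim i) = if i = j then 1 else 0)) = true)
    {x : D.group F} (hx : orderOf x = 2) : ∃ e ∈ ω, IsConj x (G.sg F fun i => e.getD i 0) := by
  obtain ⟨h1, h2⟩ := of_decide_eq_true h
  have hi := torS_injective G hs hc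
  obtain ⟨j, a1, a2, a3⟩ := exists_embed G hs F (AlgebraicClosure F) (hi _) (by rw [center_St_eq_bot G hs hc]; simp)
  have H := fro_St G hs F (AlgebraicClosure F) fun K _ _ => hi K
  obtain ⟨s, b1⟩ := H.exists_conj_tor (x := j x) (by rw [orderOf_injective j a1, hx]; simpa using hF)
  have b2 : ∀ i, ∃ a : ℤ, (-1) ^ a = s i := fun i => by
    have := b1.pow 2
    rw [← map_pow, ← hx, pow_orderOf_eq_one, map_one, isConj_one_right, ← map_pow, map_eq_one_iff _ (hi _), hx] at this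
    rcases sq_eq_one_iff.1 (congrArg Units.val (congrFun this i) : (s i : AlgebraicClosure F) ^ 2 = 1) with h | h
    exacts [⟨0, Units.ext h.symm⟩, ⟨1, Units.ext (by simp [h])⟩]
  choose v hv using b2
  obtain rfl := funext hv
  have b3 : G.R.vec ⟨θ, h1⟩ = fun j : Fin D.rank => m.getD j 0 := sub_eq_zero.1 (G.R.car_inj _ fun j => by
    rw [map_sub, ← G.R.pair_simple, ← B.car_eq' G, (h2 j j.2).2.1, sumN_eq, G.R.ap_apply, sub_eq_zero]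
    exact sum_congr rfl fun i _ => by rw [← B.sim_eq i i.2, ← G.simple_eq, B.car_eq' G, G.R.pair_simple_simple])
  obtain ⟨w, hw, y, b4⟩ := G.R.exists_rep_two (θ := ⟨θ, h1⟩) (fun j => b3 ▸ (h2 j j.2).1) v
  have b5 : IsConj x (G.sg F (v ᵥ* G.R.mat w + (2 : ℤ) • y)) := H.isConj_of_tor a1 a2 b1 (by
    rw [Good.sg, a3]
    refine (H.isConj_tor_iff.2 ⟨w, hw, ?_⟩).symm
    rw [mact_zpow]
    exact funext fun i => by simp [_root_.zpow_add, _root_.zpow_mul, Units.ext_iff])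
  rcases b4 with b4 | ⟨i, b4, b6⟩
  · rw [b4, Good.sg, show (fun i => (-1 : Fˣ) ^ (0 : Fin D.rank → ℤ) i) = 1 from funext fun _ => zpow_zero _, map_one, isConj_one_left] at b5
    simp [b5] at hx
  · obtain ⟨e, he, b7⟩ := (h2 i i.2).2.2 (by simpa [b3] using b4)
    refine ⟨e, he, ?_⟩
    rwa [sub_eq_zero.1 (G.R.ev_inj (e := v ᵥ* G.R.mat w + (2 : ℤ) • y - fun i : Fin D.rank => e.getD i 0) fun k => by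
      rw [map_sub, b6, ← B.ev_eq G, G.simple_eq, B.sim_eq k k.2, b7 k k.2]; simp [Fin.ext_iff])] at b5

def bG2_1 : List ℕ := [7, 11]
def AG2_1 : List (List ℤ) := [[2, 0], [0, 2]]
def dG2_1 : List ℤ := [1, 3]
def PG2_1 : List (List ℤ) := [[1, 0], [0, 1]]
def MG2_1 : List (List ℕ) := [[1, 2], [2, 1]]
def cG2_1 : List (Fin 2 × List (List (Fin 2))) := [(0, [[], [0]]), (1, [[], [1]])]
def bF4_0 : List ℕ := [24, 25, 27, 41]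
def AF4_0 : List (List ℤ) := [[2, -1, 0, -1], [-1, 2, -1, 0], [0, -2, 2, 0], [-1, 0, 0, 2]]
def dF4_0 : List ℤ := [2, 2, 1, 2]
def PF4_0 : List (List ℤ) := [[1, 0, 0, 0], [0, 1, 0, 0], [0, 0, 1, 0], [0, 0, 0, 1], [1, 1, 0, 0], [1, 0, 0, 1], [0, 1, 2, 0], [0, 1, 1, 0], [1, 1, 2, 0], [1, 1, 0, 1], [1, 1, 1, 0], [1, 2, 2, 0], [1, 1, 2, 1], [1, 1, 1, 1], [1, 2, 2, 1], [2, 2, 2, 1]]
def MF4_0 : List (List ℕ) := [[1, 3, 2, 3], [3, 1, 4, 2], [2, 4, 1, 2], [3, 2, 2, 1]]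
def cF4_0 : List (Fin 4 × List (List (Fin 4))) := [(3, [[], [3], [0, 3], [1, 0, 3], [2, 1, 0, 3], [1, 2, 1, 0, 3], [0, 1, 2, 1, 0, 3], [3, 0, 1, 2, 1, 0, 3]]), (0, [[], [0], [1, 0], [2, 1, 0], [1, 2, 1, 0], [0, 1, 2, 1, 0]]), (1, [[], [1], [2, 1], [1, 2, 1]]), (2, [[], [2]])]
def bF4_3 : List ℕ := [25, 27, 33, 47]
def AF4_3 : List (List ℤ) := [[2, -1, 0, 0], [-2, 2, -1, 0], [0, -1, 2, 0], [0, 0, 0, 2]]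
def dF4_3 : List ℤ := [2, 1, 1, 2]
def PF4_3 : List (List ℤ) := [[1, 0, 0, 0], [0, 1, 0, 0], [0, 0, 1, 0], [0, 0, 0, 1], [1, 2, 0, 0], [1, 1, 0, 0], [0, 1, 1, 0], [1, 2, 2, 0], [1, 1, 1, 0], [1, 2, 1, 0]]
def MF4_3 : List (List ℕ) := [[1, 4, 2, 2], [4, 1, 3, 2], [2, 3, 1, 2], [2, 2, 2, 1]]
def cF4_3 : List (Fin 4 × List (List (Fin 4))) := [(3, [[], [3]]), (2, [[], [2], [1, 2], [0, 1, 2], [1, 0, 1, 2], [2, 1, 0, 1, 2]]), (0, [[], [0], [1, 0], [0, 1, 0]]), (1, [[], [1]])]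
def bE8_0 : List ℕ := [120, 121, 123, 126, 130, 135, 141, 226]
def AE8_0 : List (List ℤ) := [[2, -1, 0, 0, 0, 0, 0, -1], [-1, 2, -1, 0, 0, 0, 0, 0], [0, -1, 2, -1, 0, 0, 0, 0], [0, 0, -1, 2, -1, 0, 0, 0], [0, 0, 0, -1, 2, -1, -1, 0], [0, 0, 0, 0, -1, 2, 0, 0], [0, 0, 0, 0, -1, 0, 2, 0], [-1, 0, 0, 0, 0, 0, 0, 2]]
def dE8_0 : List ℤ := [1, 1, 1, 1, 1, 1, 1, 1]
def PE8_0 : List (List ℤ) := [[1, 0, 0, 0, 0, 0, 0, 0], [0, 1, 0, 0, 0, 0, 0, 0], [0, 0, 1, 0, 0, 0, 0, 0], [0, 0, 0, 1, 0, 0, 0, 0], [0, 0, 0, 0, 1, 0, 0, 0], [0, 0, 0, 0, 0, 1, 0, 0], [0, 0, 0, 0, 0, 0, 1, 0], [0, 0, 0, 0, 0, 0, 0, 1], [1, 1, 0, 0, 0, 0, 0, 0], [1, 0, 0, 0, 0, 0, 0, 1], [0, 1, 1, 0, 0, 0, 0, 0], [0, 0, 1, 1, 0, 0, 0, 0], [0, 0, 0, 1, 1, 0, 0, 0], [0, 0, 0, 0, 1, 1, 0, 0], [0, 0, 0, 0, 1, 0, 1, 0],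 [1, 1, 1, 0, 0, 0, 0, 0], [1, 1, 0, 0, 0, 0, 0, 1], [0, 1, 1, 1, 0, 0, 0, 0], [0, 0, 1, 1, 1, 0, 0, 0], [0, 0, 0, 1, 1, 1, 0, 0], [0, 0, 0, 1, 1, 0, 1, 0], [0, 0, 0, 0, 1, 1, 1, 0], [1, 1, 1, 1, 0, 0, 0, 0], [1, 1, 1, 0, 0, 0, 0, 1], [0, 1, 1, 1, 1, 0, 0, 0], [0, 0, 1, 1, 1, 1, 0, 0], [0, 0, 1, 1, 1, 0, 1, 0], [0, 0, 0, 1, 1, 1, 1, 0], [1, 1, 1, 1, 1, 0, 0, 0], [1, 1, 1, 1, 0, 0, 0, 1], [0, 1, 1, 1, 1, 1, 0, 0], [0, 1, 1, 1, 1, 0, 1, 0], [0, 0, 1, 1, 1, 1, 1, 0], [0, 0, 0, 1, 2, 1, 1, 0], [1, 1, 1, 1, 1, 1, 0, 0], [1, 1, 1, 1, 1, 0, 1, 0], [1, 1, 1, 1, 1, 0, 0, 1], [0, 1, 1, 1, 1, 1, 1, 0], [0, 0, 1, 1, 2, 1, 1, 0], [1, 1, 1, 1, 1, 1, 1, 0], [1, 1, 1, 1, 1, 1, 0, 1], [1, 1, 1, 1, 1, 0, 1, 1], [0, 1, 1, 1, 2, 1, 1, 0], [0, 0, 1, 2, 2, 1, 1, 0], [1, 1, 1, 1, 2, 1, 1, 0],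 [1, 1, 1, 1, 1, 1, 1, 1], [0, 1, 1, 2, 2, 1, 1, 0], [1, 1, 1, 2, 2, 1, 1, 0], [1, 1, 1, 1, 2, 1, 1, 1], [0, 1, 2, 2, 2, 1, 1, 0], [1, 1, 2, 2, 2, 1, 1, 0], [1, 1, 1, 2, 2, 1, 1, 1], [1, 2, 2, 2, 2, 1, 1, 0], [1, 1, 2, 2, 2, 1, 1, 1], [1, 2, 2, 2, 2, 1, 1, 1], [2, 2, 2, 2, 2, 1, 1, 1]]
def ME8_0 : List (List ℕ) := [[1, 3, 2, 2, 2, 2, 2, 3], [3, 1, 3, 2, 2, 2, 2, 2], [2, 3, 1, 3, 2, 2, 2, 2], [2, 2, 3, 1, 3, 2, 2, 2], [2, 2, 2, 3, 1, 3, 3, 2], [2, 2, 2, 2, 3, 1, 2, 2], [2, 2, 2, 2, 3, 2, 1, 2], [3, 2, 2, 2, 2, 2, 2, 1]]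
def cE8_0 : List (Fin 8 × List (List (Fin 8))) := [(7, [[], [7], [0, 7], [1, 0, 7], [2, 1, 0, 7], [3, 2, 1, 0, 7], [4, 3, 2, 1, 0, 7], [5, 4, 3, 2, 1, 0, 7], [6, 4, 3, 2, 1, 0, 7], [6, 5, 4, 3, 2, 1, 0, 7], [4, 6, 5, 4, 3, 2, 1, 0, 7], [3, 4, 6, 5, 4, 3, 2, 1, 0, 7], [2, 3, 4, 6, 5, 4, 3, 2, 1, 0, 7], [1, 2, 3, 4, 6, 5, 4, 3, 2, 1, 0, 7], [0, 1, 2, 3, 4, 6, 5, 4, 3, 2, 1, 0, 7], [7, 0, 1, 2, 3, 4, 6, 5, 4, 3, 2, 1, 0, 7]]), (0, [[], [0], [1, 0], [2, 1, 0], [3, 2, 1, 0], [4, 3, 2, 1, 0], [5, 4, 3, 2, 1, 0], [6, 4, 3, 2, 1, 0], [6, 5, 4, 3, 2, 1, 0], [4, 6, 5, 4, 3, 2, 1, 0], [3, 4, 6, 5, 4, 3, 2, 1, 0], [2, 3, 4, 6, 5, 4, 3, 2, 1, 0], [1, 2, 3, 4, 6, 5, 4, 3, 2, 1, 0], [0, 1, 2, 3, 4, 6, 5, 4, 3, 2, 1, 0]]), (1, [[], [1], [2, 1], [3, 2, 1], [4, 3, 2, 1], [5, 4, 3, 2, 1],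 [6, 4, 3, 2, 1], [6, 5, 4, 3, 2, 1], [4, 6, 5, 4, 3, 2, 1], [3, 4, 6, 5, 4, 3, 2, 1], [2, 3, 4, 6, 5, 4, 3, 2, 1], [1, 2, 3, 4, 6, 5, 4, 3, 2, 1]]), (2, [[], [2], [3, 2], [4, 3, 2], [5, 4, 3, 2], [6, 4, 3, 2], [6, 5, 4, 3, 2], [4, 6, 5, 4, 3, 2], [3, 4, 6, 5, 4, 3, 2], [2, 3, 4, 6, 5, 4, 3, 2]]), (3, [[], [3], [4, 3], [5, 4, 3], [6, 4, 3], [6, 5, 4, 3], [4, 6, 5, 4, 3], [3, 4, 6, 5, 4, 3]]), (5, [[], [5], [4, 5], [6, 4, 5]]), (4, [[], [4], [6, 4]]), (6, [[], [6]])]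
def bE8_7 : List ℕ := [121, 123, 126, 130, 135, 141, 162, 239]
def AE8_7 : List (List ℤ) := [[2, -1, 0, 0, 0, 0, 0, 0], [-1, 2, -1, 0, 0, 0, 0, 0], [0, -1, 2, -1, 0, 0, 0, 0], [0, 0, -1, 2, -1, -1, 0, 0], [0, 0, 0, -1, 2, 0, -1, 0], [0, 0, 0, -1, 0, 2, 0, 0], [0, 0, 0, 0, -1, 0, 2, 0], [0, 0, 0, 0, 0, 0, 0, 2]]
def dE8_7 : List ℤ := [1, 1, 1, 1, 1, 1, 1, 1]
def PE8_7 : List (List ℤ) := [[1, 0, 0, 0, 0, 0, 0, 0], [0, 1, 0, 0, 0, 0, 0, 0], [0, 0, 1, 0, 0, 0, 0, 0], [0, 0, 0, 1, 0, 0, 0, 0], [0, 0, 0, 0, 1, 0, 0, 0], [0, 0, 0, 0, 0, 1, 0, 0], [0, 0, 0, 0, 0, 0, 1, 0], [0, 0, 0, 0, 0, 0, 0, 1], [1, 1, 0, 0, 0, 0, 0, 0], [0, 1, 1, 0, 0, 0, 0, 0], [0, 0, 1, 1, 0, 0, 0, 0], [0, 0, 0, 1, 1, 0, 0, 0], [0, 0, 0, 1, 0, 1, 0, 0], [0, 0, 0, 0, 1, 0, 1, 0], [1, 1, 1, 0, 0, 0, 0, 0],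 [0, 1, 1, 1, 0, 0, 0, 0], [0, 0, 1, 1, 1, 0, 0, 0], [0, 0, 1, 1, 0, 1, 0, 0], [0, 0, 0, 1, 1, 1, 0, 0], [0, 0, 0, 1, 1, 0, 1, 0], [1, 1, 1, 1, 0, 0, 0, 0], [0, 1, 1, 1, 1, 0, 0, 0], [0, 1, 1, 1, 0, 1, 0, 0], [0, 0, 1, 1, 1, 1, 0, 0], [0, 0, 1, 1, 1, 0, 1, 0], [0, 0, 0, 1, 1, 1, 1, 0], [1, 1, 1, 1, 1, 0, 0, 0], [1, 1, 1, 1, 0, 1, 0, 0], [0, 1, 1, 1, 1, 1, 0, 0], [0, 1, 1, 1, 1, 0, 1, 0], [0, 0, 1, 2, 1, 1, 0, 0], [0, 0, 1, 1, 1, 1, 1, 0], [1, 1, 1, 1, 1, 1, 0, 0], [1, 1, 1, 1, 1, 0, 1, 0], [0, 1, 1, 2, 1, 1, 0, 0], [0, 1, 1, 1, 1, 1, 1, 0], [0, 0, 1, 2, 1, 1, 1, 0], [1, 1, 1, 2, 1, 1, 0, 0], [1, 1, 1, 1, 1, 1, 1, 0], [0, 1, 2, 2, 1, 1, 0, 0], [0, 1, 1, 2, 1, 1, 1, 0], [0, 0, 1, 2, 2, 1, 1, 0], [1, 1, 2, 2, 1, 1, 0, 0], [1, 1, 1, 2, 1, 1, 1, 0], [0, 1, 2, 2, 1, 1, 1, 0],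 [0, 1, 1, 2, 2, 1, 1, 0], [1, 2, 2, 2, 1, 1, 0, 0], [1, 1, 2, 2, 1, 1, 1, 0], [1, 1, 1, 2, 2, 1, 1, 0], [0, 1, 2, 2, 2, 1, 1, 0], [1, 2, 2, 2, 1, 1, 1, 0], [1, 1, 2, 2, 2, 1, 1, 0], [0, 1, 2, 3, 2, 1, 1, 0], [1, 2, 2, 2, 2, 1, 1, 0], [1, 1, 2, 3, 2, 1, 1, 0], [0, 1, 2, 3, 2, 2, 1, 0], [1, 2, 2, 3, 2, 1, 1, 0], [1, 1, 2, 3, 2, 2, 1, 0], [1, 2, 3, 3, 2, 1, 1, 0], [1, 2, 2, 3, 2, 2, 1, 0], [1, 2, 3, 3, 2, 2, 1, 0], [1, 2, 3, 4, 2, 2, 1, 0], [1, 2, 3, 4, 3, 2, 1, 0], [1, 2, 3, 4, 3, 2, 2, 0]]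
def ME8_7 : List (List ℕ) := [[1, 3, 2, 2, 2, 2, 2, 2], [3, 1, 3, 2, 2, 2, 2, 2], [2, 3, 1, 3, 2, 2, 2, 2], [2, 2, 3, 1, 3, 3, 2, 2], [2, 2, 2, 3, 1, 2, 3, 2], [2, 2, 2, 3, 2, 1, 2, 2], [2, 2, 2, 2, 3, 2, 1, 2], [2, 2, 2, 2, 2, 2, 2, 1]]
def cE8_7 : List (Fin 8 × List (List (Fin 8))) := [(7, [[], [7]]), (0, [[], [0], [1, 0], [2, 1, 0], [3, 2, 1, 0], [4, 3, 2, 1, 0], [5, 3, 2, 1, 0], [6, 4, 3, 2, 1, 0], [5, 4, 3, 2, 1, 0], [5, 6, 4, 3, 2, 1, 0], [3, 5, 4, 3, 2, 1, 0], [3, 5, 6, 4, 3, 2, 1, 0], [2, 3, 5, 4, 3, 2, 1, 0], [2, 3, 5, 6, 4, 3, 2, 1, 0], [4, 3, 5, 6, 4, 3, 2, 1, 0], [1, 2, 3, 5, 4, 3, 2, 1, 0], [1, 2, 3, 5, 6, 4, 3, 2, 1, 0], [4, 2, 3, 5, 6, 4, 3, 2, 1, 0], [0, 1, 2, 3, 5, 4, 3, 2, 1, 0], [0, 1, 2, 3, 5, 6, 4, 3, 2, 1, 0], [4, 1, 2, 3, 5, 6, 4, 3, 2, 1, 0], [3,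 4, 2, 3, 5, 6, 4, 3, 2, 1, 0], [4, 0, 1, 2, 3, 5, 6, 4, 3, 2, 1, 0], [3, 4, 1, 2, 3, 5, 6, 4, 3, 2, 1, 0], [5, 3, 4, 2, 3, 5, 6, 4, 3, 2, 1, 0], [3, 4, 0, 1, 2, 3, 5, 6, 4, 3, 2, 1, 0], [2, 3, 4, 1, 2, 3, 5, 6, 4, 3, 2, 1, 0], [5, 3, 4, 1, 2, 3, 5, 6, 4, 3, 2, 1, 0], [2, 3, 4, 0, 1, 2, 3, 5, 6, 4, 3, 2, 1, 0], [5, 3, 4, 0, 1, 2, 3, 5, 6, 4, 3, 2, 1, 0], [5, 2, 3, 4, 1, 2, 3, 5, 6, 4, 3, 2, 1, 0], [1, 2, 3, 4, 0, 1, 2, 3, 5, 6, 4, 3, 2, 1, 0], [5, 2, 3, 4, 0, 1, 2, 3, 5, 6, 4, 3, 2, 1, 0], [3, 5, 2, 3, 4, 1, 2, 3, 5, 6, 4, 3, 2, 1, 0], [5, 1, 2, 3, 4, 0, 1, 2, 3, 5, 6, 4, 3, 2, 1, 0], [3, 5, 2, 3, 4, 0, 1, 2, 3, 5, 6, 4, 3, 2, 1, 0], [4, 3, 5, 2, 3, 4, 1, 2, 3, 5, 6, 4, 3, 2, 1, 0], [3, 5, 1, 2, 3, 4, 0, 1, 2, 3, 5, 6, 4, 3, 2, 1, 0], [4, 3, 5, 2, 3, 4, 0, 1, 2, 3, 5, 6,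 4, 3, 2, 1, 0], [6, 4, 3, 5, 2, 3, 4, 1, 2, 3, 5, 6, 4, 3, 2, 1, 0], [2, 3, 5, 1, 2, 3, 4, 0, 1, 2, 3, 5, 6, 4, 3, 2, 1, 0], [4, 3, 5, 1, 2, 3, 4, 0, 1, 2, 3, 5, 6, 4, 3, 2, 1, 0], [6, 4, 3, 5, 2, 3, 4, 0, 1, 2, 3, 5, 6, 4, 3, 2, 1, 0], [4, 2, 3, 5, 1, 2, 3, 4, 0, 1, 2, 3, 5, 6, 4, 3, 2, 1, 0], [6, 4, 3, 5, 1, 2, 3, 4, 0, 1, 2, 3, 5, 6, 4, 3, 2, 1, 0], [6, 4, 2, 3, 5, 1, 2, 3, 4, 0, 1, 2, 3, 5, 6, 4, 3, 2, 1, 0], [3, 4, 2, 3, 5, 1, 2, 3, 4, 0, 1, 2, 3, 5, 6, 4, 3, 2, 1, 0], [3, 6, 4, 2, 3, 5, 1, 2, 3, 4, 0, 1, 2, 3, 5, 6, 4, 3, 2, 1, 0], [5, 3, 4, 2, 3, 5, 1, 2, 3, 4, 0, 1, 2, 3, 5, 6, 4, 3, 2, 1, 0], [4, 3, 6, 4, 2, 3, 5, 1, 2, 3, 4, 0, 1, 2, 3, 5, 6, 4, 3, 2, 1, 0], [5, 3, 6, 4, 2, 3, 5, 1, 2, 3, 4, 0, 1, 2, 3, 5, 6, 4, 3, 2, 1, 0], [5, 4, 3, 6, 4, 2, 3, 5, 1, 2, 3, 4,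 0, 1, 2, 3, 5, 6, 4, 3, 2, 1, 0], [3, 5, 4, 3, 6, 4, 2, 3, 5, 1, 2, 3, 4, 0, 1, 2, 3, 5, 6, 4, 3, 2, 1, 0], [2, 3, 5, 4, 3, 6, 4, 2, 3, 5, 1, 2, 3, 4, 0, 1, 2, 3, 5, 6, 4, 3, 2, 1, 0], [1, 2, 3, 5, 4, 3, 6, 4, 2, 3, 5, 1, 2, 3, 4, 0, 1, 2, 3, 5, 6, 4, 3, 2, 1, 0], [0, 1, 2, 3, 5, 4, 3, 6, 4, 2, 3, 5, 1, 2, 3, 4, 0, 1, 2, 3, 5, 6, 4, 3, 2, 1, 0]]), (1, [[], [1], [2, 1], [3, 2, 1], [4, 3, 2, 1], [5, 3, 2, 1], [6, 4, 3, 2, 1], [5, 4, 3, 2, 1], [5, 6, 4, 3, 2, 1], [3, 5, 4, 3, 2, 1], [3, 5, 6, 4, 3, 2, 1], [2, 3, 5, 4, 3, 2, 1], [2, 3, 5, 6, 4, 3, 2, 1], [4, 3, 5, 6, 4, 3, 2, 1], [1, 2, 3, 5, 4, 3, 2, 1], [1, 2, 3, 5, 6, 4, 3, 2, 1], [4, 2, 3, 5, 6, 4, 3, 2, 1], [4, 1, 2, 3, 5, 6, 4, 3, 2, 1], [3, 4, 2, 3, 5, 6, 4, 3, 2, 1], [3, 4, 1, 2, 3, 5, 6, 4, 3, 2, 1], [5, 3, 4, 2, 3,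 5, 6, 4, 3, 2, 1], [2, 3, 4, 1, 2, 3, 5, 6, 4, 3, 2, 1], [5, 3, 4, 1, 2, 3, 5, 6, 4, 3, 2, 1], [5, 2, 3, 4, 1, 2, 3, 5, 6, 4, 3, 2, 1], [3, 5, 2, 3, 4, 1, 2, 3, 5, 6, 4, 3, 2, 1], [4, 3, 5, 2, 3, 4, 1, 2, 3, 5, 6, 4, 3, 2, 1], [6, 4, 3, 5, 2, 3, 4, 1, 2, 3, 5, 6, 4, 3, 2, 1]]), (6, [[], [6], [4, 6], [3, 4, 6], [2, 3, 4, 6], [5, 3, 4, 6], [5, 2, 3, 4, 6], [3, 5, 2, 3, 4, 6], [4, 3, 5, 2, 3, 4, 6], [6, 4, 3, 5, 2, 3, 4, 6]]), (2, [[], [2], [3, 2], [4, 3, 2], [5, 3, 2], [5, 4, 3, 2], [3, 5, 4, 3, 2], [2, 3, 5, 4, 3, 2]]), (4, [[], [4], [3, 4], [5, 3, 4]]), (3, [[], [3], [5, 3]]), (5, [[], [5]])]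

end Cfsg.Agent.H14
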