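import Cfsg.Agent.H14.EO3

/-! Element orders in groups of type `G₂`. -/

set_option autoImplicit false

namespace Cfsg.Agent.H14

open Finset Cfsg.Lie

lemma RS.chi_comb {ι Φ : Type} [Fintype ι] [DecidableEq ι] {R : RS ι Φ} {K : Type*} [Field K] {s : ι → Kˣ} {r r' a : Φ}
    (h : a ∈ R.comb r r') (h1 : R.chi s r = 1) (h2 : R.chi s r' = 1) : R.chi s a = 1 := by
  obtain ⟨i, j, -, -, h⟩ := RS.comb_pair h
  suffices R.chi s a = R.chi s r ^ i * R.chi s r' ^ j by simp [this, h1, h2]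
  simp only [RS.chi, h, zpow_add, prod_mul_distrib, ← prod_zpow, ← zpow_mul, mul_comm]

lemma pow_eq_one_of_small {A : Type*} [Group A] {s : A} {q : ℕ} (hq : q.Coprime (orderOf s)) {D : ℤ} (h : s ^ D = 1)
    (hD : D ∈ [1, -1, 2, -2, 3, -3]) : s ^ (q - 1) = 1 ∨ s ^ (q + 1) = 1 := by
  simp only [← orderOf_dvd_iff_pow_eq_one]
  have h1 : orderOf s ∣ D.natAbs := Int.natCast_dvd.1 (orderOf_dvd_iff_zpow_eq_one.2 h)
  have h2 : D.natAbs ≠ 0 ∧ D.natAbs ≤ 3 := by simp at hD; omega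
  have h3 := (Nat.le_of_dvd (Nat.pos_of_ne_zero h2.1) h1).trans h2.2
  have h4 := Nat.pos_of_dvd_of_pos h1 (Nat.pos_of_ne_zero h2.1)
  generalize orderOf s = n at *
  interval_cases n
  · simp
  · have := Nat.coprime_two_right.1 hq; obtain ⟨c, rfl⟩ := this; omega
  · have := (Nat.Prime.coprime_iff_not_dvd Nat.prime_three).1 hq.symm; omega

/-- the roots of `G₂` in the basis of fundamental weights -/
def cG (i : Fin 2) (r : Fin 12) : ℤ := ([[0, -3, -1, 1, -2, 3, -3, 2, -1, 1, 3, 0], [-1, 1, 0, -1, 1, -2, 2, -1, 1, 0, -1, 1]].getD i []).getD r 0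

/-- the coroots of `G₂` -/
def vG (r : Fin 12) (i : Fin 2) : ℤ := ([[-1, -1, -2, -1, -1, 0, 0, 1, 1, 2, 1, 1], [-2, -1, -3, -3, 0, -1, 1, 0, 3, 3, 1, 2]].getD i []).getD r 0

lemma g2_tab₁ : ∀ a b : Fin 12, vG a 0 * cG 0 b + vG a 1 * cG 1 b = -3 → vG b 0 * cG 0 a + vG b 1 * cG 1 a = -1 →
    ((vG a 0 + vG b 1, vG a 0 * vG b 1 - vG a 1 * vG b 0) ∈ [((0 : ℤ), (-1 : ℤ)), (-1, 1), (1, 1)] ∨
      ∃ e ∈ [1, -1], vG a 0 = e ∧ vG b 0 = 0 ∧ vG a 1 = 0 ∧ vG b 1 = e) ∧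
    ∀ r : Fin 12, (∃ e ∈ [1, -1], ∃ x ∈ [0, 1, -1, 2, -2, 3, -3], ∃ y ∈ [0, 1, -1, 2, -2, 3, -3],
      vG a 0 = e + x * cG 0 r ∧ vG b 0 = x * cG 1 r ∧ vG a 1 = y * cG 0 r ∧ vG b 1 = e + y * cG 1 r) ∨
      cG 0 r * (cG 0 r * vG b 0 + cG 1 r * vG b 1) - cG 1 r * (cG 0 r * vG a 0 + cG 1 r * vG a 1) ∈ [1, -1, 2, -2, 3, -3] := by
  decide +kernel

lemma g2_tab₂ : ∀ a b : Fin 12, 0 < 3 * cG 0 a + 5 * cG 1 a → 0 < 3 * cG 0 b + 5 * cG 1 b → ∀ c : Fin 12, ∀ i j : Fin 5,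
    cG 0 c = i * cG 0 a + j * cG 0 b → cG 1 c = i * cG 1 a + j * cG 1 b → i ≠ 0 → j ≠ 0 →
      cG 0 a * cG 1 b - cG 1 a * cG 0 b ∈ [1, -1] ∨ cG 0 a * cG 1 b - cG 1 a * cG 0 b ∈ [3, -3] ∧ c = 11 ∧ a ≠ 11 ∧ b ≠ 11 := by
  decide +kernel

lemma g2_tab₃ : ∀ a : Fin 12, 3 * cG 0 a + 5 * cG 1 a ≤ 5 := by decide +kernel

theorem g2_pow {R : RS (Fin 2) (Fin 12)} (hc : ∀ i r, R.pair (R.simple i) r = cG i r) (hv : ∀ r i, R.cov r i = vG r i)
    (hh : ∀ r, R.ht r = 3 * cG 0 r + 5 * cG 1 r) {k Γ : Type*} [Field k] [Group Γ] (X : RG0 R k Γ) {p : ℕ} (hp : p.Prime)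
    (h0 : (p : k) = 0) {q : ℕ} (hq1 : 1 ≤ q) {s : Fin 2 → kˣ} (hq : q.Coprime (orderOf s)) {w : Equiv.Perm (Fin 12)} (hw : w ∈ R.W)
    (e : mact (R.mat w) s = s ^ q) {u : Γ} (hu : u ∈ X.gen {r | R.pos r ∧ R.chi s r = 1}) {m : ℕ} (hm : 5 < p ^ m) :
    u = 1 ∧ (s ^ (q ^ 2 - 1) = 1 ∨ s ^ (q ^ 2 + q + 1) = 1 ∨ s ^ (q ^ 2 - q + 1) = 1) ∨
      u ^ p = 1 ∧ (s ^ (q - 1) = 1 ∨ s ^ (q + 1) = 1) ∨ s = 1 ∧ u ^ p ^ m = 1 ∨ p = 2 ∧ s ^ 3 = 1 ∧ u ^ 4 = 1 := by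
  have a0 : ∀ D : ℤ, D • Additive.ofMul (s 0) = 0 ∧ D • Additive.ofMul (s 1) = 0 → s ^ D = 1 := fun D h =>
    funext (Fin.forall_fin_two.2 h)
  have a1 : ∀ r, R.chi s r = 1 → cG 0 r • Additive.ofMul (s 0) + cG 1 r • Additive.ofMul (s 1) = 0 := fun r h => by
    rw [RS.chi, Fin.prod_univ_two, hc, hc] at h; exact h
  have a2 : ∀ j, vG (w (R.simple 0)) j • Additive.ofMul (s 0) + vG (w (R.simple 1)) j • Additive.ofMul (s 1) =
      (q : ℤ) • Additive.ofMul (s j) := fun j => by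
    have := congrFun e j
    rw [mact_apply, Fin.prod_univ_two, RS.mat, Matrix.of_apply, Matrix.of_apply, hv, hv, Pi.pow_apply, ← zpow_natCast] at this
    exact this
  have a3 : ∀ i j, vG (w (R.simple i)) 0 * cG 0 (w (R.simple j)) + vG (w (R.simple i)) 1 * cG 1 (w (R.simple j)) =
      R.pair (R.simple i) (R.simple j) := fun i j => by
    rw [← RS.Aut.pair_eq (R.W_le_Aut hw), ← R.ev_cov, RS.ev_apply, Fin.sum_univ_two, hc, hc, hv, hv]
  have a4 : ∀ i, cG 0 (R.simple i) * 3 + cG 1 (R.simple i) * 5 = 1 := fun i => by have := hh (R.simple i); simp at this; omega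
  have a5 := R.car_self 0
  have a6 := R.car_self 1
  rw [← R.pair_simple_simple, hc] at a5 a6
  obtain ⟨b1, b2⟩ := g2_tab₁ (w (R.simple 0)) (w (R.simple 1)) (by have := a4 1; rw [a3, hc]; omega) (by have := a4 0; rw [a3, hc]; omega)
  have b3 := a2 0
  have b4 := a2 1
  generalize vG (w (R.simple 0)) 0 = m00, vG (w (R.simple 0)) 1 = m01, vG (w (R.simple 1)) 0 = m10, vG (w (R.simple 1)) 1 = m11
    at b1 b2 b3 b4
  have c0 : ∀ e ∈ [1, -1], s ^ ((q : ℤ) - e) = 1 → s ^ (q - 1) = 1 ∨ s ^ (q + 1) = 1 := by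
    simpa [← zpow_natCast, hq1] using ⟨Or.inl, Or.inr⟩
  have c1 : ∀ r, R.chi s r = 1 → s ^ (q - 1) = 1 ∨ s ^ (q + 1) = 1 := fun r hr => by
    have := a1 r hr
    rcases b2 r with ⟨e, he, x, -, y, -, rfl, rfl, rfl, rfl⟩ | h
    · exact c0 e he (a0 _ ⟨by linear_combination (norm := module) x • this - b3, by linear_combination (norm := module) y • this - b4⟩)
    · refine pow_eq_one_of_small hq (a0 _ ⟨?_, ?_⟩) h
      · linear_combination (norm := module) (cG 0 r * m10 + cG 1 r * m11) • this -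
          cG 1 r • (cG 0 r • b3 + cG 1 r • b4 + (q : ℤ) • this)
      · linear_combination (norm := module) cG 0 r • (cG 0 r • b3 + cG 1 r • b4 + (q : ℤ) • this) -
          (cG 0 r * m00 + cG 1 r * m01) • this
  have c2 : ∀ {g : Fin 12 → ℕ} {c n : ℕ}, c < p ^ n → (∀ r, R.pos r → 1 ≤ g r ∧ g r ≤ c) → (∀ r r' a, R.pos r → R.pos r' →
      R.chi s r = 1 → R.chi s r' = 1 → a ∈ R.comb r r' → g r + g r' ≤ g a) → u ^ p ^ n = 1 := fun h1 h2 h3 =>
    X.pow_eq_one hp h0 (fun r hr => h2 r hr.1) (fun r hr r' hr' => by exact ⟨RS.ne_neg_of_f RS.htv (add_pos hr.1.ht_pos hr'.1.ht_pos),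
      fun a ha => ⟨⟨RS.comb_pos ha hr.1 hr'.1, RS.chi_comb ha hr.2 hr'.2⟩, h3 r r' a hr.1 hr'.1 hr.2 hr'.2 ha⟩⟩) h1 hu
  by_cases d0 : s = 1
  · refine .inr (.inr (.inl ⟨d0, c2 (g := fun r => (R.ht r).toNat) hm (fun r hr => ?_) fun r r' a h1 h2 _ _ h => ?_⟩))
    · have := hr.ht_pos; have := g2_tab₃ r; have := hh r; omega
    · have := RS.comb_f_ge RS.htv h h1.ht_pos.le h2.ht_pos.le
      have := h1.ht_pos
      have := h2.ht_pos
      simp only [← RS.ht_def] at *; omega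
  by_cases d1 : ∃ r, R.chi s r = 1
  swap
  · refine .inl ⟨by simpa [show {r | R.pos r ∧ R.chi s r = 1} = ∅ from Set.eq_empty_of_forall_notMem fun r h => d1 ⟨r, h.2⟩] using hu, ?_⟩
    rcases b1 with h | ⟨e, he, rfl, rfl, rfl, rfl⟩
    · have := a0 (q ^ 2 - (m00 + m11) * q + (m00 * m11 - m01 * m10))
        ⟨by linear_combination (norm := module) (m11 - q) • b3 - m10 • b4, by linear_combination (norm := module) (m00 - q) • b4 - m01 • b3⟩
      simp only [List.mem_cons, Prod.mk.injEq, List.not_mem_nil, or_false] at h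
      simp only [← zpow_natCast, Nat.cast_add, Nat.cast_sub (Nat.one_le_pow 2 q hq1), Nat.cast_sub (Nat.le_self_pow two_ne_zero q)]
      rcases h with h | h | h <;> rw [h.1, h.2] at this
      exacts [.inl (by convert this using 2; push_cast; ring), .inr (.inl (by convert this using 2; push_cast; ring)),
        .inr (.inr (by convert this using 2; push_cast; ring))]
    · refine .inl (orderOf_dvd_iff_pow_eq_one.1 ?_)
      rw [← one_pow 2, Nat.sq_sub_sq]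
      exact (c0 _ he (a0 _ ⟨by linear_combination (norm := module) - b3, by linear_combination (norm := module) - b4⟩)).elim
        (fun h => (orderOf_dvd_of_pow_eq_one h).mul_left _) fun h => (orderOf_dvd_of_pow_eq_one h).mul_right _
  obtain ⟨r₀, d1⟩ := d1
  have c3 : ∀ r r' a, R.pos r → R.pos r' → R.chi s r = 1 → R.chi s r' = 1 → a ∈ R.comb r r' →
      s ^ 3 = 1 ∧ a = 11 ∧ r ≠ 11 ∧ r' ≠ 11 := fun r r' a h1 h2 h3 h4 h => by
    obtain ⟨i, j, f1, f2, f3⟩ := RS.comb_pair h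
    have f4 := f3 (R.simple 0)
    have f5 := f3 (R.simple 1)
    have f6 := h1.ht_pos
    have f7 := h2.ht_pos
    have f8 := g2_tab₃ a
    simp only [hc, hh] at f4 f5 f6 f7
    have f9 := a0 (cG 0 r * cG 1 r' - cG 1 r * cG 0 r')
      ⟨by linear_combination (norm := module) cG 1 r' • a1 r h3 - cG 1 r • a1 r' h4,
        by linear_combination (norm := module) cG 0 r • a1 r' h4 - cG 0 r' • a1 r h3⟩
    lift i to ℕ using f1.le
    lift j to ℕ using f2.le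
    rcases g2_tab₂ r r' f6 f7 a ⟨i, by nlinarith⟩ ⟨j, by nlinarith⟩ f4 f5 (by simpa using f1.ne') (by simpa using f2.ne') with h | h
    · exact absurd (by simp at h; rcases h with h | h <;> simpa [h] using f9) d0
    · exact ⟨by have := h.1; simp at this; rcases this with h | h <;> simpa [h, zpow_ofNat] using f9, h.2⟩
  by_cases d2 : ∀ r r' a, R.pos r → R.pos r' → R.chi s r = 1 → R.chi s r' = 1 → a ∉ R.comb r r'
  · exact .inr (.inl ⟨pow_one p ▸ c2 (g := 1) (c := 1) (by simpa using hp.one_lt) (by simp)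
      fun r r' a h1 h2 h3 h4 h => (d2 r r' a h1 h2 h3 h4 h).elim, c1 r₀ d1⟩)
  push Not at d2
  obtain ⟨r, r', a, h1, h2, h3, h4, h⟩ := d2
  have c4 := fun n h => c2 (g := fun r => if r = 11 then 2 else 1) (c := 2) (n := n) h (fun r _ => by split_ifs <;> simp)
    fun r r' a h1 h2 h3 h4 h => by simp [c3 r r' a h1 h2 h3 h4 h]
  rcases hp.eq_two_or_odd' with rfl | h5
  · exact .inr (.inr (.inr ⟨rfl, (c3 r r' a h1 h2 h3 h4 h).1, c4 2 (by norm_num)⟩))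
  · exact .inr (.inl ⟨pow_one p ▸ c4 1 (by have := hp.two_le; obtain ⟨c, rfl⟩ := h5; simp; omega), c1 r₀ d1⟩)

lemma pow_cases {A B : Type*} [Monoid A] [Monoid B] {s : A} {u : B} {a b c d e p m : ℕ} (h : u = 1 ∧ (s ^ a = 1 ∨ s ^ b = 1 ∨ s ^ c = 1) ∨
    u ^ p = 1 ∧ (s ^ d = 1 ∨ s ^ e = 1) ∨ s = 1 ∧ u ^ m = 1 ∨ p = 2 ∧ s ^ 3 = 1 ∧ u ^ 4 = 1) :
    ∃ n ∈ [a, b, c, p * d, p * e, m, if p = 2 then 12 else 1], s ^ n = 1 ∧ u ^ n = 1 := by
  simp only [List.mem_cons, List.not_mem_nil, or_false, exists_eq_or_imp, exists_eq_left, pow_mul u, pow_mul' s]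
  rcases h with ⟨rfl, h | h | h⟩ | ⟨h, h' | h'⟩ | ⟨rfl, h⟩ | ⟨rfl, h, h'⟩ <;> try simp [*]
  simp [show s ^ 12 = (s ^ 3) ^ 4 by rw [← pow_mul], show u ^ 12 = (u ^ 4) ^ 3 by rw [← pow_mul], h, h']

theorem g2_orderOf {F : Type*} [Field F] [Fintype F] (p : ℕ) [hp : Fact p.Prime] [CharP F p] {q : ℕ} (hq : Fintype.card F = q)
    {m : ℕ} (hm : 5 < p ^ m) (x : chevG2.group F) : ∃ n ∈ [q ^ 2 - 1, q ^ 2 + q + 1, q ^ 2 - q + 1, p * (q - 1), p * (q + 1), p ^ m,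
      if p = 2 then 12 else 1], orderOf x ∣ n := by
  subst hq
  obtain ⟨j, h1, h2, h3⟩ := exists_fro goodG2 stG2 (centerG2 _) F
  obtain ⟨e, -, he⟩ := FiniteField.card F p
  obtain ⟨s, ⟨w, a1, a2⟩, u, a3, a4⟩ := h3.jordan h1 h2 hp.out (CharP.cast_eq_zero _ p) he x
  have b1 : ∀ (i : Fin 2) (r : Fin 12), goodG2.R.pair (goodG2.R.simple i) r = cG i r := fun i r =>
    (bridgeG2.car_eq' goodG2 i r).symm.trans ((by decide +kernel : ∀ (i : Fin 2) (r : Fin 12), tabG2.car i r = cG i r) i r)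
  have := g2_pow (R := goodG2.R) b1 (fun r i => (bridgeG2.cov_eq' goodG2 r i).symm.trans
    ((by decide +kernel : ∀ (r : Fin 12) (i : Fin 2), tabG2.cov r i = vG r i) r i)) (fun r => by
      erw [← b1, ← b1, RS.pair_simple, RS.pair_simple, RS.ap_apply, RS.ap_apply, car_eqG2, RS.ht_def, RS.htv_apply,
        Fin.sum_univ_two, Fin.sum_univ_two, Fin.sum_univ_two]
      simp [carG2]; ring) _ hp.out (CharP.cast_eq_zero _ p) Fintype.card_pos (orderOf_injective _ h3.inj s ▸ h3.coprime_tor s) a1 a2 a3 hm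
  simp only [orderOf_dvd_iff_pow_eq_one, a4]
  exact pow_cases this

end Cfsg.Agent.H14
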