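import Cfsg.Agent.H14.EO4

/-! Elements of given order in groups of type `G₂`. -/

set_option autoImplicit false

namespace Cfsg.Agent.H14

open Finset Cfsg.Lie

lemma RG0.pow_eq_one_U {ι Φ : Type} [Fintype ι] [DecidableEq ι] {R : RS ι Φ} {k Γ : Type*} [Field k] [Group Γ] (X : RG0 R k Γ) {p : ℕ}
    (hp : p.Prime) (h0 : (p : k) = 0) {c n : ℕ} (hc : ∀ r, R.ht r ≤ c) (hn : c < p ^ n) {u : Γ} (hu : u ∈ X.U) : u ^ p ^ n = 1 :=
  X.pow_eq_one hp h0 (S := {r | R.pos r}) (g := fun r => (R.ht r).toNat)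
    (fun r hr => ⟨by have := RS.pos.ht_pos hr; omega, by have := hc r; omega⟩) (fun r hr s hs => by
      have a1 := RS.pos.ht_pos hr
      have a2 := RS.pos.ht_pos hs
      exact ⟨RS.ne_neg_of_f RS.htv (add_pos a1 a2), fun a ha => ⟨RS.comb_pos ha hr hs, by
        have := RS.comb_f_ge RS.htv ha a1.le a2.le
        simp only [← RS.ht_def] at this; omega⟩⟩) hn hu

lemma gw_pow {D : ChevalleyDatum} (G : Good D) (F : Type*) [Field F] (w : List ℕ) (n : ℕ) :
    gw G F w ^ n = gw G F (List.replicate n w).flatten := by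
  induction n with
  | zero => rfl
  | succ n ih => rw [pow_succ', ih, ← gw_append]; rfl

variable {F : Type*} [Field F] (p : ℕ) [hp : Fact p.Prime] [CharP F p]

lemma g2_reg {m : ℕ} (hm : 5 < p ^ (m + 1)) {v : List ℤ} {a : ℕ} (h : band (allL (List.replicate (p ^ m) [6, 7]).flatten fun r => Nat.blt r 12)
    (band (Nat.blt a 14) (wvec chevG2 (List.replicate (p ^ m) [6, 7]).flatten v fun v' =>
      decide (¬ (p : ℤ) ∣ v'.getD a 0 - v.getD a 0))) = true) : ∃ x : chevG2.group F, orderOf x = p ^ (m + 1) := by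
  have b1 : ∀ (i : Fin 2) (r : Fin 12), goodG2.R.pair (goodG2.R.simple i) r = cG i r := fun i r =>
    (bridgeG2.car_eq' goodG2 i r).symm.trans ((by decide +kernel : ∀ (i : Fin 2) (r : Fin 12), tabG2.car i r = cG i r) i r)
  have b2 : ∀ r : Fin 12, goodG2.R.ht r = 3 * cG 0 r + 5 * cG 1 r := fun r => by
    erw [← b1, ← b1, RS.pair_simple, RS.pair_simple, RS.ap_apply, RS.ap_apply, car_eqG2, RS.ht_def, RS.htv_apply,
      Fin.sum_univ_two, Fin.sum_univ_two, Fin.sum_univ_two]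
    simp [carG2]; ring
  exact ⟨gw goodG2 F [6, 7], orderOf_eq_prime_pow (gw_pow goodG2 F _ _ ▸ gw_ne_one goodG2 bridgeG2 F h)
    ((goodG2.rgD F).pow_eq_one_U hp.out (CharP.cast_eq_zero F p) (fun r => (b2 r).trans_le (g2_tab₃ r)) hm
      (mul_mem ((goodG2.rgD F).x_mem_U (r := (6 : Fin 12)) ((RS.pos_iff_ht _ _).2 (b2 _ ▸ by decide)) 1)
        (mul_mem ((goodG2.rgD F).x_mem_U (r := (7 : Fin 12)) ((RS.pos_iff_ht _ _).2 (b2 _ ▸ by decide)) 1) (one_mem _))))⟩

lemma g2_twelve [CharP F 2] : ∃ x : chevG2.group F, orderOf x = 12 :=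
  ⟨gw goodG2 F [0, 2, 9], orderOf_eq_of_pow_and_pow_div_prime (by norm_num)
    ((gw_pow goodG2 F _ _).trans (gw_eq goodG2 bridgeG2 (by decide) (w := []) (by decide) (by decide) (by decide +kernel))) fun r a b => by
      have := Nat.le_of_dvd (by norm_num) b
      rw [gw_pow]
      interval_cases r <;> first | exact absurd a (by decide) | exact absurd b (by decide) | skip
      · exact gw_ne_one goodG2 bridgeG2 F (p := 2) (v := [1]) (a := 7) (by decide +kernel)
      · exact gw_ne_one goodG2 bridgeG2 F (p := 2) (v := [1]) (a := 1) (by decide +kernel)⟩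

variable [Fintype F] {q : ℕ} (hq : Fintype.card F = q)
include hq

omit hp [CharP F p] in
lemma g2_coprime : ∀ n ∈ [q ^ 2 - 1, q ^ 2 + q + 1, q ^ 2 - q + 1, q - 1, q + 1], q.Coprime n := by
  have h1 : 1 ≤ q := hq ▸ Fintype.card_pos
  have h2 := Nat.one_le_pow 2 q h1
  have h3 := Nat.le_self_pow two_ne_zero q
  simp only [List.mem_cons, List.not_mem_nil, or_false, forall_eq_or_imp, forall_eq, ← Nat.isCoprime_iff_coprime]
  exact ⟨⟨q, -1, by push_cast [h2]; ring⟩, ⟨-q - 1, 1, by push_cast; ring⟩, ⟨1 - q, 1, by push_cast [h3]; ring⟩,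
    ⟨1, -1, by push_cast [h1]; ring⟩, ⟨-1, 1, by push_cast; ring⟩⟩

theorem g2_exists : ∀ n ∈ [q ^ 2 - 1, q ^ 2 + q + 1, q ^ 2 - q + 1, p * (q - 1), p * (q + 1)], ∃ x : chevG2.group F, orderOf x = n := by
  have h0 := g2_coprime hq
  subst hq
  have h1 : 1 ≤ Fintype.card F := Fintype.card_pos
  have h2 := Nat.one_le_pow 2 _ h1
  have h3 := Nat.le_self_pow two_ne_zero (Fintype.card F)
  simp only [List.mem_cons, List.not_mem_nil, or_false, forall_eq_or_imp, forall_eq, mul_comm p] at h0 ⊢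
  exact ⟨exists_ord₁ goodG2 bridgeG2 stG2 (centerG2 _) F (w := [7]) (d := 2) (φ := [-1, 0]) (E := [[1, 1], [0, 1]]) (i := 0) (c := 1)
      (by decide +kernel) h0.1 (dvd_of_eq (by simp [evM, sum_range_succ, h2, sub_eq_add_neg])) isCoprime_one_left,
    exists_ord₁ goodG2 bridgeG2 stG2 (centerG2 _) F (w := [7, 9]) (d := 2) (φ := [1, 1]) (E := [[1, 2], [0, 1]]) (i := 0) (c := 1)
      (by decide +kernel) h0.2.1 (dvd_of_eq (by simp [evM, sum_range_succ]; ring)) isCoprime_one_left,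
    exists_ord₁ goodG2 bridgeG2 stG2 (centerG2 _) F (w := [7, 6]) (d := 2) (φ := [1, -1]) (E := [[1, 2], [0, -1]]) (i := 0) (c := 1)
      (by decide +kernel) h0.2.2.1 (dvd_of_eq (by simp [evM, sum_range_succ, h3]; ring)) isCoprime_one_left,
    exists_ordp goodG2 bridgeG2 stG2 (centerG2 _) F (w := []) (d := 1) (φ := [-1]) (E := [[1, 0]]) (i := 0) (c := 1)
      (by decide +kernel) h0.2.2.2.1 (dvd_of_eq (by simp [evM, h1, sub_eq_add_neg])) isCoprime_one_left (θ := 11) (by decide +kernel) p,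
    exists_ordp goodG2 bridgeG2 stG2 (centerG2 _) F (w := [7]) (d := 1) (φ := [1]) (E := [[1, 0]]) (i := 0) (c := 1)
      (by decide +kernel) h0.2.2.2.2 (dvd_of_eq (by simp [evM])) isCoprime_one_left (θ := 11) (by decide +kernel) p⟩

end Cfsg.Agent.H14
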