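import Cfsg.Agent.H14.EO3

/-! Element orders in groups of type `F₄`. -/

set_option autoImplicit false

namespace Cfsg.Agent.H14

open Finset Matrix Cfsg.Lie

lemma RS.det_mat_rP {ι Φ : Type} [Fintype ι] [DecidableEq ι] (R : RS ι Φ) (r : Φ) : (R.mat (R.rP r)).det = -1 := by
  have : R.mat (R.rP r) = 1 + replicateCol Unit (fun i => - R.pair (R.simple i) r) * replicateRow Unit (R.cov r) := by
    ext i j
    simp [RS.mat, RS.cov_refl, RS.cov_simple, mul_apply, one_apply, Pi.single_apply, eq_comm, sub_eq_add_neg]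
  have h := R.ev_cov r r
  rw [RS.ev_apply, RS.pair_self] at h
  rw [this, det_one_add_replicateCol_mul_replicateRow]
  simp [dotProduct, h]

lemma zpow_of_poly {ι : Type} [Fintype ι] [DecidableEq ι] {A : Type*} [CommGroup A] {M : Matrix ι ι ℤ} {s : ι → A} {q : ℕ}
    (h : mact M s = s ^ q) {a b c d : ℤ} (e : M * M * (M * M) + d • (M * M * M) + c • (M * M) + b • M + a • 1 = 0) :
    s ^ evM 4 [a, b, c, d] q = 1 := by
  have h1 : ∀ N N' : Matrix ι ι ℤ, mact (N + N') s = mact N s * mact N' s := fun N N' => funext fun j => by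
    simp [mact_apply, _root_.zpow_add, prod_mul_distrib]
  have h2 : ∀ (x : ℤ) (N : Matrix ι ι ℤ), mact (x • N) s = mact N s ^ x := fun x N => funext fun j => by
    simp [mact_apply, ← prod_zpow, ← _root_.zpow_mul, mul_comm, -zsmul_eq_mul]
  have := congrArg (mact · s) e
  simp only [h1, h2, mact_mul, h, map_pow, mact_one, ← zpow_natCast, map_zpow, ← _root_.zpow_mul, ← _root_.zpow_add] at this
  rw [show mact 0 s = 1 from funext fun j => by simp [mact_apply]] at this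
  convert this using 2
  simp [evM, sum_range_succ]; ring

/-- `4 × 4` matrices as lists -/
def toM (L : List ℤ) : Matrix (Fin 4) (Fin 4) ℤ := Matrix.of fun i j => L.getD (4 * i + j) 0

/-- product of `4 × 4` matrices -/
def mulL (A B : List ℤ) : List ℤ := (List.range 16).map fun x =>
  A.getD (x / 4 * 4) 0 * B.getD (x % 4) 0 + A.getD (x / 4 * 4 + 1) 0 * B.getD (x % 4 + 4) 0 +
    A.getD (x / 4 * 4 + 2) 0 * B.getD (x % 4 + 8) 0 + A.getD (x / 4 * 4 + 3) 0 * B.getD (x % 4 + 12) 0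

lemma toM_mulL (A B : List ℤ) : toM (mulL A B) = toM A * toM B := by
  ext i j
  fin_cases i <;> fin_cases j <;> simp [toM, mulL, mul_apply, Fin.sum_univ_four]

/-- determinant of a `4 × 4` matrix -/
def detL (L : List ℤ) : ℤ :=
  let m := fun a b => L.getD a 0 * L.getD (b + 4) 0 - L.getD b 0 * L.getD (a + 4) 0
  m 0 1 * m 10 11 - m 0 2 * m 9 11 + m 0 3 * m 9 10 + m 1 2 * m 8 11 - m 1 3 * m 8 10 + m 2 3 * m 8 9

lemma det_toM (L : List ℤ) : (toM L).det = detL L := by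
  simp [toM, detL, det_succ_row_zero, Fin.sum_univ_succ, Fin.succAbove]; ring

/-- annihilating polynomials of the elements of the Weyl group of type `F₄` -/
noncomputable def f4Chk (T : Tab) : Bool :=
  allN 48 fun a => allN 48 fun b => bimp (ibeq (T.pr 4 a b) (-1)) <| bimp (ibeq (T.pr 4 b a) (-1)) <|
  allN 48 fun c => bimp (ibeq (T.pr 4 b c) (-2)) <| bimp (ibeq (T.pr 4 a c) 0) <|
  allN 48 fun d => bimp (ibeq (T.pr 4 c d) (-1)) <| bimp (ibeq (T.pr 4 b d) 0) <| bimp (ibeq (T.pr 4 a d) 0) <|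
  forceL ((List.range 16).map fun x => T.cov ([a, b, c, d].getD (x / 4) 0) (x % 4)) fun M => forceL (mulL M M) fun M2 =>
  forceL (mulL M2 M) fun M3 => forceL (mulL M2 M2) fun M4 =>
  let f := fun p q r : ℤ => allN 4 fun i => allN 4 fun j => ibeq (M4.getD (4 * i + j) 0 + r * M3.getD (4 * i + j) 0 +
    q * M2.getD (4 * i + j) 0 + p * r * M.getD (4 * i + j) 0 + p * bite (Nat.beq i j) 1 0) 0
  bor (f (-1) 0 0) <| bor (f (-1) 0 1) <| bor (f (-1) 0 (-1)) <| band (ibeq (detL M) 1) <| bor (f 1 0 0) (f 1 (-1) 0)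

lemma f4Chk_true : f4Chk tabF4 = true := by decide +kernel

theorem f4_pow {R : RS (Fin 4) (Fin 48)} (hv : ∀ (r : Fin 48) (i : Fin 4), tabF4.cov r i = R.cov r i)
    (hp : ∀ r s : Fin 48, tabF4.pr 4 r s = R.pair r s) (hc : R.car = carF4) {A : Type*} [CommGroup A] {s : Fin 4 → A} {q : ℕ}
    {w : Equiv.Perm (Fin 48)} (hw : w ∈ R.W) (e : mact (R.mat w) s = s ^ q) :
    (∃ r ∈ [0, 1, -1], s ^ evM 4 [-1, -r, 0, r] q = 1) ∨ (R.mat w).det = 1 ∧ ∃ r ∈ [0, -1], s ^ evM 4 [1, 0, r, 0] q = 1 := by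
  have a1 : ∀ i j, tabF4.pr 4 (w (R.simple i)) (w (R.simple j)) = carF4 i j := fun i j => by
    rw [hp, RS.Aut.pair_eq (R.W_le_Aut hw), RS.pair_simple_simple, hc]
  have h := f4Chk_true
  simp only [f4Chk, allN_iff, bimp_iff, ibeq_iff, forceL_eq, bor_iff, band_iff] at h
  have h1 := h _ (w (R.simple 0)).2 _ (w (R.simple 1)).2 (a1 0 1) (a1 1 0) _ (w (R.simple 2)).2 (a1 1 2) (a1 0 2) _
    (w (R.simple 3)).2 (a1 2 3) (a1 1 3) (a1 0 3)
  generalize hM : List.map _ (List.range 16) = M at h1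
  have a2 : R.mat w = toM M := by
    ext i j
    fin_cases i <;> fin_cases j <;> simp [← hM, toM, RS.mat, ← hv]
  have a3 : ∀ p c r : ℤ, (∀ i < 4, ∀ j < 4, (mulL (mulL M M) (mulL M M)).getD (4 * i + j) 0 + r * (mulL (mulL M M) M).getD (4 * i + j) 0 +
      c * (mulL M M).getD (4 * i + j) 0 + p * r * M.getD (4 * i + j) 0 + p * bite (Nat.beq i j) 1 0 = 0) →
      s ^ evM 4 [p, p * r, c, r] q = 1 := fun p c r h => zpow_of_poly e (by
    simp only [a2, ← toM_mulL]
    ext i j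
    simp only [toM, Matrix.add_apply, Matrix.smul_apply, of_apply, smul_eq_mul, one_apply, Matrix.zero_apply]
    simpa only [bite_eq, nbeq_iff, Fin.ext_iff] using h i i.2 j j.2)
  rw [a2, det_toM]
  rcases h1 with h1 | h1 | h1 | ⟨h0, h1 | h1⟩
  exacts [.inl ⟨0, by simp, by simpa using a3 _ _ _ h1⟩, .inl ⟨1, by simp, by simpa using a3 _ _ _ h1⟩, .inl ⟨-1, by simp, by simpa using a3 _ _ _ h1⟩,
    .inr ⟨h0, 0, by simp, by simpa using a3 _ _ _ h1⟩, .inr ⟨h0, -1, by simp, by simpa using a3 _ _ _ h1⟩]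

end Cfsg.Agent.H14
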