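import Cfsg.Agent.H10.Comp
import Cfsg.Agent.H10.Cores
import Cfsg.Agent.H12.Lin

/-! Centralisers of transvections and of involutions in linear groups. -/

set_option autoImplicit false

namespace Cfsg.Agent.H14.GLCen

open Matrix Subgroup

variable {F : Type*} [Field F] {ι : Type*} [Fintype ι] [DecidableEq ι]

lemma mem_pCore_two {G : Type*} [Group G] (ρ : G →* Matrix ι ι F) (hρ : Function.Injective ρ)
    (e : ι → F) (he : ∀ g, ρ g *ᵥ e = e) (h2 : (2 : F) = 0) {x : G}
    (hx : ∀ v, ∃ c : F, ρ x *ᵥ v = v + c • e) : x ∈ pCore 2 G := by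
  let A : Subgroup G :=
    { carrier := {x | ∀ v, ∃ c : F, ρ x *ᵥ v = v + c • e}
      one_mem' := fun v => ⟨0, by simp⟩
      mul_mem' := fun {a b} ha hb v => by
        obtain ⟨c, hc⟩ := hb v
        obtain ⟨d, hd⟩ := ha v
        exact ⟨d + c, by rw [map_mul, ← mulVec_mulVec, hc, mulVec_add, mulVec_smul, he, hd, add_smul,
          add_assoc]⟩
      inv_mem' := fun {a} ha v => by
        obtain ⟨c, hc⟩ := ha (ρ a⁻¹ *ᵥ v)
        rw [mulVec_mulVec, ← map_mul, mul_inv_cancel, map_one, one_mulVec] at hc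
        exact ⟨-c, by rw [neg_smul, ← sub_eq_add_neg, eq_sub_iff_add_eq, ← hc]⟩ }
  have hn : A.Normal := ⟨fun a ha g v => by
    obtain ⟨c, hc⟩ := ha (ρ g⁻¹ *ᵥ v)
    exact ⟨c, by rw [map_mul, map_mul, ← mulVec_mulVec, ← mulVec_mulVec, hc, mulVec_add, mulVec_smul,
      he, mulVec_mulVec, ← map_mul, mul_inv_cancel, map_one, one_mulVec]⟩⟩
  refine H10.le_pCore (N := A) (fun a => ⟨1, Subtype.ext (hρ ?_)⟩) hx
  refine Matrix.ext_of_mulVec_single fun j => ?_
  obtain ⟨c, hc⟩ := a.2 (Pi.single j 1)
  rw [pow_one, coe_pow, pow_two, map_mul, ← mulVec_mulVec, hc, mulVec_add, mulVec_smul, he, hc,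
    add_assoc, ← add_smul, ← two_mul, h2, zero_mul, zero_smul, add_zero, coe_one, map_one, one_mulVec]

lemma row_of_commute {g : Matrix ι ι F} {i k : ι}
    (h : g * transvection i k 1 = transvection i k 1 * g) :
    (∀ s, g k s = if s = k then g i i else 0) ∧ ∀ r, r ≠ i → g r i = 0 := by
  rw [transvection, mul_add, add_mul, mul_one, one_mul, add_right_inj] at h
  refine ⟨fun s => ?_, fun r hr => ?_⟩
  · have := congrFun (congrFun h i) s
    rw [single_mul_apply_same, one_mul] at this
    rw [← this]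
    split_ifs with e
    · subst e; simp
    · exact mul_single_apply_of_ne _ _ _ _ _ e _
  · have := congrFun (congrFun h r) k
    rwa [mul_single_apply_same, mul_one, single_mul_apply_of_ne _ _ _ _ _ hr] at this

theorem fstar_transvection [Fintype F] (hF : Fintype.card F = 2) {i j : ι} (hij : i ≠ j)
    (t : SpecialLinearGroup ι F) (ht : t.1 = transvection i j 1) :
    generalizedFittingSubgroup (centralizer ({t} : Set (SpecialLinearGroup ι F))) =
      pCore 2 (centralizer ({t} : Set (SpecialLinearGroup ι F))) := by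
  have h2 : (2 : F) = 0 := by
    have h : ((Fintype.card F : ℕ) : F) = 0 := FiniteField.cast_card_eq_zero F
    rw [hF] at h
    exact_mod_cast h
  have h01 : ∀ a : F, a ≠ 0 → a = 1 := fun a ha => by
    have := FiniteField.pow_card_sub_one_eq_one a ha
    rwa [hF, pow_one] at this
  let ρ : centralizer ({t} : Set (SpecialLinearGroup ι F)) →* Matrix ι ι F :=
    SpecialLinearGroup.coeMonoidHom.comp (Subgroup.subtype _)
  have hρ : Function.Injective ρ := fun a b h => Subtype.ext (Subtype.ext h)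
  have hc : ∀ g, (∀ r, r ≠ i → ρ g r i = 0) ∧ ρ g i i = 1 := by
    intro g
    have h : g.1.1 * t.1 = t.1 * g.1.1 :=
      congrArg (fun z : SpecialLinearGroup ι F => z.1) (mem_centralizer_singleton_iff.1 g.2)
    rw [ht] at h
    have k := (row_of_commute h).2
    refine ⟨k, h01 _ fun h0 => ?_⟩
    have : (g.1.1).det = 0 := det_eq_zero_of_column_eq_zero i fun r => by
      by_cases e : r = i
      · rw [e]; exact h0
      · exact k r e
    rw [g.1.2] at this
    exact one_ne_zero this
  have he : ∀ g, ρ g *ᵥ Pi.single i 1 = Pi.single i 1 := by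
    intro g
    funext r
    rw [mulVec_single_one]
    by_cases e : r = i
    · rw [e, Pi.single_eq_same]; exact (hc g).2
    · rw [Pi.single_eq_of_ne e]; exact (hc g).1 r e
  have key : ∀ g, (∀ k, k ≠ i → ∀ s, ρ g k s = if s = k then 1 else 0) → g ∈ pCore 2 _ := by
    intro g hg
    refine mem_pCore_two ρ hρ _ he h2 fun v => ⟨(ρ g *ᵥ v) i - v i, funext fun r => ?_⟩
    by_cases e : r = i
    · simp [e]
    · simp [e, mulVec, dotProduct, hg r e]
  have : Fact (Nat.Prime 2) := ⟨Nat.prime_two⟩
  rw [H10.fstar_eq_pCore_iff]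
  intro g hg
  refine key g fun k hk s => ?_
  have hm : SpecialLinearGroup.transvection hk.symm (1 : F) ∈
      centralizer ({t} : Set (SpecialLinearGroup ι F)) := by
    rw [mem_centralizer_singleton_iff]
    apply Subtype.ext
    show transvection i k (1 : F) * t.1 = t.1 * transvection i k 1
    rw [ht]
    simp only [transvection, mul_add, add_mul, mul_one, one_mul, single_mul_single_of_ne _ _ _ _ hk,
      single_mul_single_of_ne _ _ _ _ hij.symm]
    abel
  have h1 := hg ⟨_, hm⟩ (key _ fun r hr s => by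
    show transvection i k (1 : F) r s = _
    simp [transvection, one_apply, hr.symm, eq_comm])
  have h3 : ρ g * transvection i k 1 = transvection i k 1 * ρ g := (congrArg (fun z => z.1.1) h1).symm
  rw [(row_of_commute h3).1 s, (hc g).2]

section blk
variable {κ : Type*} [Fintype κ] [DecidableEq κ] (e : κ ⊕ Unit ≃ ι)

/-- block diagonal matrices -/
def blk (A : Matrix κ κ F) (d : F) : Matrix ι ι F :=
  reindex e e (fromBlocks A 0 0 (diagonal fun _ => d))

omit [Fintype ι] [DecidableEq ι] [Fintype κ] [DecidableEq κ] in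
lemma blk_inj {A B : Matrix κ κ F} {d d' : F} (h : blk e A d = blk e B d') : A = B :=
  (fromBlocks_inj.1 ((reindex e e).injective h)).1

omit [DecidableEq ι] [DecidableEq κ] in
lemma blk_mul (A B : Matrix κ κ F) (d d' : F) : blk e A d * blk e B d' = blk e (A * B) (d * d') := by
  simp [blk, submatrix_mul_equiv, fromBlocks_multiply]

omit [Fintype ι] [Fintype κ] in
lemma blk_one : blk e (1 : Matrix κ κ F) 1 = 1 := by
  simp [blk]

lemma det_blk (A : Matrix κ κ F) (d : F) : (blk e A d).det = A.det * d := by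
  simp [blk]

omit [DecidableEq ι] in
lemma exists_blk (h2 : (2 : F) ≠ 0) {g : Matrix ι ι F} (h : g * blk e (-1) 1 = blk e (-1) 1 * g) :
    ∃ A d, g = blk e A d := by
  obtain ⟨g, rfl⟩ := (reindex e e).surjective g
  simp only [blk, reindex_apply, submatrix_mul_equiv] at h
  have h' : g * fromBlocks (-1) 0 0 (diagonal fun _ => 1) =
      fromBlocks (-1) 0 0 (diagonal fun _ => 1) * g := (reindex e e).injective h
  rw [← fromBlocks_toBlocks g, fromBlocks_multiply, fromBlocks_multiply, fromBlocks_inj] at h'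
  simp only [Matrix.mul_neg, Matrix.mul_one, Matrix.mul_zero, add_zero, zero_add, Matrix.neg_mul,
    Matrix.one_mul, Matrix.zero_mul, diagonal_one] at h'
  have k : ∀ b : F, b = -b → b = 0 := fun b hb => by
    rw [eq_neg_iff_add_eq_zero, ← two_mul] at hb
    exact (mul_eq_zero.1 hb).resolve_left h2
  refine ⟨g.toBlocks₁₁, g (.inr ()) (.inr ()), congrArg _ ?_⟩
  have k1 : g.toBlocks₁₂ = 0 := Matrix.ext fun i j => k _ (congrFun (congrFun h'.2.1 i) j)
  have k2 : g.toBlocks₂₁ = 0 := Matrix.ext fun i j => k _ (congrFun (congrFun h'.2.2.1.symm i) j)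
  have k3 : g.toBlocks₂₂ = diagonal fun _ => g (.inr ()) (.inr ()) := by
    ext i j
    simp [toBlocks₂₂]
  rw [← k1, ← k3]
  conv_rhs => rw [← k2]
  exact (fromBlocks_toBlocks g).symm

/-- block embedding -/
def jGL : GL κ F × Fˣ →* GL ι F :=
  MonoidHom.toHomUnits
    { toFun := fun p => blk e p.1.1 p.2.1
      map_one' := blk_one e
      map_mul' := fun _ _ => (blk_mul e _ _ _ _).symm }

lemma jGL_coe (p : GL κ F × Fˣ) : (jGL e p).1 = blk e p.1.1 p.2.1 := rfl

/-- block embedding -/
def jSL : GL κ F →* SpecialLinearGroup ι F where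
  toFun A := ⟨blk e A.1 (A.1.det)⁻¹, by rw [det_blk, mul_inv_cancel₀ A.det_ne_zero]⟩
  map_one' := Subtype.ext (by simpa using blk_one e)
  map_mul' A B := Subtype.ext (by
    show blk e _ _ = blk e _ _ * blk e _ _
    rw [blk_mul, Units.val_mul, det_mul, mul_inv])

lemma jSL_coe (A : GL κ F) : (jSL e A).1 = blk e A.1 (A.1.det)⁻¹ := rfl

lemma jSL_inj : Function.Injective (jSL e : GL κ F → _) := fun _ _ h =>
  Units.ext (blk_inj e (congrArg Subtype.val h))

lemma range_jSL (h2 : (2 : F) ≠ 0) {t : SpecialLinearGroup ι F} (ht : t.1 = blk e (-1) 1) :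
    (jSL e).range = centralizer {t} := by
  ext g
  rw [mem_centralizer_singleton_iff]
  constructor
  · rintro ⟨A, rfl⟩
    apply Subtype.ext
    show (jSL e A).1 * t.1 = t.1 * (jSL e A).1
    rw [ht, jSL_coe, blk_mul, blk_mul]
    simp
  · intro h
    have h' : g.1 * t.1 = t.1 * g.1 := congrArg Subtype.val h
    rw [ht] at h'
    obtain ⟨A, d, hA⟩ := exists_blk e h2 h'
    have hd := g.2
    rw [hA, det_blk] at hd
    refine ⟨GeneralLinearGroup.mkOfDetNeZero A (left_ne_zero_of_mul_eq_one hd), Subtype.ext ?_⟩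
    rw [hA, jSL_coe]
    exact congrArg (blk e A) (eq_inv_of_mul_eq_one_right hd).symm

lemma range_jGL (h2 : (2 : F) ≠ 0) : (jGL e).range = centralizer {jGL e ((-1 : GL κ F), (1 : Fˣ))} := by
  ext g
  rw [mem_centralizer_singleton_iff]
  constructor
  · rintro ⟨A, rfl⟩
    rw [← map_mul, ← map_mul]
    congr 1
    ext <;> simp
  · intro h
    have h' : g.1 * blk e (-1) 1 = blk e (-1) 1 * g.1 := congrArg Units.val h
    obtain ⟨A, d, hA⟩ := exists_blk e h2 h'
    have hd := g.det_ne_zero
    rw [hA, det_blk] at hd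
    exact ⟨(GeneralLinearGroup.mkOfDetNeZero A (left_ne_zero_of_mul hd),
      Units.mk0 d (right_ne_zero_of_mul hd)), Units.ext hA.symm⟩

end blk

lemma scalar_of_centralizes {g : GL ι F} (h : g ∈ centralizer
    ((SpecialLinearGroup.toGL : SpecialLinearGroup ι F →* GL ι F).range : Set (GL ι F))) :
    ∃ a : F, scalar ι a = g.1 :=
  mem_range_scalar_of_commute_transvectionStruct fun t =>
    congrArg Units.val (h _ ⟨SpecialLinearGroup.transvection t.hij t.c, rfl⟩)

lemma qs_SL [Nontrivial ι] (h : commutator (SpecialLinearGroup ι F) = ⊤) :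
    IsQuasisimple (SpecialLinearGroup.toGL : SpecialLinearGroup ι F →* GL ι F).range :=
  (H10.isQuasisimple_congr (MonoidHom.ofInjective SpecialLinearGroup.toGL_injective)).1
    ⟨⟨h⟩, H12.PSL_simple_of_perfect h⟩

instance normal_SL :
    (SpecialLinearGroup.toGL : SpecialLinearGroup ι F →* GL ι F).range.Normal := by
  rw [H12.range_toGL_eq_ker_det]; infer_instance

theorem standard_of {Γ G : Type*} [Group Γ] [Group G] [Finite G] (j : Γ →* G)
    (hj : Function.Injective j) (S : Subgroup Γ) [S.Normal] (hS : IsQuasisimple S) {s : Γ}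
    (hs : s ∈ S) (h2 : orderOf s = 2) (hr : j.range = centralizer {j s})
    (hc : ∀ z ∈ centralizer (S : Set Γ), z ∈ center Γ)
    (hu : ∀ z ∈ center Γ, orderOf z = 2 → z = s) :
    IsStandardSubgroup (H10.LayOf (centralizer {j s})) := by
  have hcomp : H10.CompOf S ⊤ := ⟨H10.SubnormalIn.of_normal le_top
    (normalizer_eq_top_iff.2 inferInstance).ge, hS⟩
  have hlay : H10.LayOf (⊤ : Subgroup Γ) = S := by
    refine le_antisymm (H10.LayOf_le_iff.2 fun K hK => ?_) hcomp.le_LayOf
    rcases hK.eq_or hcomp with h | h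
    · exact h.le
    · rw [commutator_eq_bot_iff_le_centralizer] at h
      exact absurd (fun x hx y _ => mem_center_iff.1 (hc x (h hx)) y) (H10.QS.not_le_centralizer hK.qs)
  have hL : H10.LayOf (centralizer {j s}) = S.map j := by
    rw [← hr, MonoidHom.range_eq_map, ← H10.map_LayOf_of_injective _ hj, hlay]
  have hsz : s ∈ center Γ := mem_center_iff.2 fun g => hj (by
    have : j g ∈ centralizer {j s} := hr ▸ ⟨g, rfl⟩
    simpa using mem_centralizer_singleton_iff.1 this)
  have hC : centralizer (S.map j : Set G) = (center Γ).map j := by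
    ext x
    constructor
    · intro hx
      have : x ∈ j.range := by
        rw [hr, mem_centralizer_singleton_iff]
        exact (hx _ ⟨s, hs, rfl⟩).symm
      obtain ⟨z, rfl⟩ := this
      exact ⟨z, hc z fun y hy => hj (by simpa using hx _ ⟨y, hy, rfl⟩), rfl⟩
    · rintro ⟨z, hz, rfl⟩ _ ⟨y, -, rfl⟩
      rw [← map_mul, ← map_mul, mem_center_iff.1 hz]
  have hinv : ∀ x ∈ (center Γ).map j, orderOf x = 2 → x = j s := by
    rintro _ ⟨z, hz, rfl⟩ h
    rw [hu z hz ((orderOf_injective j hj z).symm.trans h)]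
  have ho : orderOf (j s) = 2 := (orderOf_injective j hj s).trans h2
  have hN : centralizer {j s} ≤ normalizer (S.map j : Set G) := by
    rw [← hL]
    exact H10.le_normalizer_LayOf le_normalizer
  have hN' : normalizer (S.map j : Set G) ≤ normalizer ((center Γ).map j : Set G) := by
    rw [← hC]
    exact H10.normalizer_le_normalizer_centralizer _
  have hq := H10.QS.map_of_injective hS hj
  rw [hL]
  refine ⟨hq, ⟨?_, fun g hg => ?_⟩, fun g _ h => ?_, ?_⟩
  · rw [hC, even_iff_two_dvd, ← ho]
    exact orderOf_dvd_natCard _ ⟨s, hsz, rfl⟩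
  · rw [hC] at hg ⊢
    by_contra hodd
    rw [Nat.not_odd_iff_even, even_iff_two_dvd] at hodd
    have : Fact (Nat.Prime 2) := ⟨Nat.prime_two⟩
    obtain ⟨⟨x, hx1, y, hy, rfl⟩, hx⟩ := exists_prime_orderOf_dvd_card' 2 hodd
    rw [← orderOf_coe] at hx
    have e1 := hinv _ hx1 hx
    have e2 := hinv y hy ((orderOf_injective (MulAut.conj g).toMonoidHom (MulAut.conj g).injective
      y).symm.trans hx)
    refine hg (hN' (hN (mem_centralizer_singleton_iff.2 ?_)))
    rw [e2] at e1
    exact mul_inv_eq_iff_eq_mul.1 e1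
  · rw [commutator_comm, commutator_eq_bot_iff_le_centralizer, hC] at h
    refine H10.QS.not_le_centralizer (H10.QS.map_of_injective hq
      (f := (MulAut.conj g).toMonoidHom) (MulAut.conj g).injective) fun x hx y hy => ?_
    obtain ⟨a, ha, rfl⟩ := h hx
    obtain ⟨b, -, rfl⟩ := h hy
    rw [← map_mul, ← map_mul, mem_center_iff.1 ha]
  · rw [hC]
    refine le_antisymm hN' fun g hg => hN (mem_centralizer_singleton_iff.2 ?_)
    have := hinv _ ((mem_normalizer_iff.1 hg _).1 ⟨s, hsz, rfl⟩) ((orderOf_injective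
      (MulAut.conj g).toMonoidHom (MulAut.conj g).injective _).trans ho)
    exact mul_inv_eq_iff_eq_mul.1 this

lemma orderOf_neg_one_GL [Nonempty ι] (h2 : (2 : F) ≠ 0) :
    orderOf (G := GL ι F) (-1) = 2 := by
  have : Fact (Nat.Prime 2) := ⟨Nat.prime_two⟩
  refine orderOf_eq_prime (x := (-1 : GL ι F)) (by rw [pow_two]; exact Units.ext (by simp))
    fun h => h2 ?_
  obtain ⟨i⟩ := ‹Nonempty ι›
  have := congrArg (fun z : GL ι F => z.1 i i) h
  simp only [Units.val_neg, Units.val_one, Matrix.neg_apply, one_apply_eq] at this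
  linear_combination -this

lemma center_of_centralizes {g : GL ι F} (h : g ∈ centralizer
    ((SpecialLinearGroup.toGL : SpecialLinearGroup ι F →* GL ι F).range : Set (GL ι F))) :
    g ∈ center (GL ι F) := by
  obtain ⟨a, ha⟩ := scalar_of_centralizes h
  refine mem_center_iff.2 fun x => Units.ext ?_
  rw [Units.val_mul, Units.val_mul, ← ha]
  exact ((scalar_commute a (fun _ => Commute.all _ _) x.1).symm).eq

theorem standard_SL [Finite F] {κ : Type*} [Fintype κ] [DecidableEq κ] (e : κ ⊕ Unit ≃ ι)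
    (h2 : (2 : F) ≠ 0) (hκ : 3 ≤ Fintype.card κ) (he : Even (Fintype.card κ))
    {t : SpecialLinearGroup ι F} (ht : t.1 = blk e (-1) 1) :
    IsStandardSubgroup (H10.LayOf (centralizer {t})) := by
  have : Nontrivial κ := Fintype.one_lt_card_iff_nontrivial.1 (by omega)
  have hd : (-1 : Matrix κ κ F).det = 1 := by rw [det_neg, he.neg_one_pow, det_one, one_mul]
  have e1 : t = jSL e (-1 : GL κ F) := Subtype.ext (by
    rw [ht, jSL_coe, Units.val_neg, Units.val_one, hd, inv_one])
  have hr := range_jSL e h2 ht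
  rw [e1] at hr ⊢
  refine standard_of _ (jSL_inj e) _ (qs_SL (H12.commutator_SL_eq_top hκ))
    ⟨⟨-1, hd⟩, Units.ext rfl⟩ (orderOf_neg_one_GL h2) hr (fun z => center_of_centralizes)
    fun z hz ho => ?_
  obtain ⟨a, ha⟩ := scalar_of_centralizes (g := z) fun y _ => mem_center_iff.1 hz y
  have h1 : z.1 ^ 2 = 1 := by rw [← Units.val_pow_eq_pow_val, ← ho, pow_orderOf_eq_one]; rfl
  rw [← ha, ← map_pow, ← map_one (scalar κ), scalar_inj, sq_eq_one_iff] at h1
  rcases h1 with rfl | rfl
  · rw [show z = 1 from Units.ext (by rw [← ha]; simp), orderOf_one] at ho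
    omega
  · exact Units.ext (by rw [← ha, map_neg, map_one]; rfl)

theorem comp_GL [Finite F] {κ : Type*} [Fintype κ] [DecidableEq κ] [Nontrivial κ] (e : κ ⊕ Unit ≃ ι)
    (h2 : (2 : F) ≠ 0) (hκ : commutator (SpecialLinearGroup κ F) = ⊤) :
    ∃ t : GL ι F, orderOf t = 2 ∧ t ∉ center (GL ι F) ∧
      HasComponent (centralizer ({t} : Set (GL ι F)) ⧸ oddCore (centralizer ({t} : Set (GL ι F)))) := by
  have hj : Function.Injective (jGL e : GL κ F × Fˣ → _) := fun a b h => by
    have h' := fromBlocks_inj.1 ((reindex e e).injective (congrArg Units.val h))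
    exact Prod.ext (Units.ext h'.1) (Units.ext (by simpa using congrFun (congrFun h'.2.2.2 ()) ()))
  have : Fact (Nat.Prime 2) := ⟨Nat.prime_two⟩
  refine ⟨jGL e (-1, 1), ?_, fun h => ?_, ?_⟩
  · rw [orderOf_injective _ hj, Prod.orderOf_mk, orderOf_neg_one_GL h2, orderOf_one]; rfl
  · obtain ⟨a, ha⟩ := scalar_of_centralizes (g := jGL e ((-1 : GL κ F), 1)) fun y _ => mem_center_iff.1 h y
    obtain ⟨k⟩ := (inferInstance : Nonempty κ)
    have h1 := congrFun (congrFun ha (e (.inl k))) (e (.inl k))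
    have h3 := congrFun (congrFun ha (e (.inr ()))) (e (.inr ()))
    simp [jGL_coe, blk] at h1 h3
    exact h2 (by linear_combination h1 - h3)
  · rw [← range_jGL e h2]
    let S := (SpecialLinearGroup.toGL : SpecialLinearGroup κ F →* GL κ F).range
    let f := (QuotientGroup.mk' (oddCore (jGL (F := F) e).range)).comp (jGL e).rangeRestrict
    have hf : Function.Surjective f :=
      (QuotientGroup.mk'_surjective _).comp (jGL e).rangeRestrict_surjective
    have hq : IsQuasisimple (S.map (MonoidHom.inl (GL κ F) Fˣ)) :=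
      H10.QS.map_of_injective (qs_SL hκ) fun a b h => congrArg Prod.fst h
    have hn : (S.map (MonoidHom.inl (GL κ F) Fˣ)).Normal := ⟨by
      rintro _ ⟨a, ha, rfl⟩ g
      exact ⟨g.1 * a * g.1⁻¹, normal_SL.conj_mem a ha _, by ext <;> simp⟩⟩
    refine ⟨_, (hn.map f hf).isSubnormal, H10.QS.map hq f fun h => ?_⟩
    obtain ⟨i, j, hij⟩ := exists_pair_ne κ
    let d := SpecialLinearGroup.diag2n hij (-1 : F) (by simp)
    have hd : orderOf d = 2 := by
      refine orderOf_eq_prime (Subtype.ext ?_) fun h => h2 ?_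
      · show d.1 ^ 2 = 1
        rw [SpecialLinearGroup.diag2n_coe, diagonal_pow, ← diagonal_one]
        congr 1
        funext k
        simp only [Pi.pow_apply]
        split_ifs <;> simp
      · have := congrFun (congrFun (congrArg Subtype.val h) i) i
        simp [d, SpecialLinearGroup.diag2n_coe] at this
        linear_combination -this
    have h1 : (jGL e).rangeRestrict (SpecialLinearGroup.toGL d, 1) ∈ oddCore (jGL (F := F) e).range := by
      rw [← QuotientGroup.eq_one_iff, ← mem_bot, ← h]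
      exact ⟨_, ⟨_, ⟨d, rfl⟩, rfl⟩, rfl⟩
    have h3 := orderOf_dvd_natCard _ h1
    rw [orderOf_injective _ ((jGL e).rangeRestrict_injective_iff.2 hj), Prod.orderOf_mk,
      orderOf_injective _ SpecialLinearGroup.toGL_injective, hd, orderOf_one] at h3
    have := Nat.Coprime.eq_one_of_dvd (H10.pPrimeCore_coprime 2 _).symm h3
    omega

lemma two_ne_zero_of_odd [Fintype F] (hF : Odd (Fintype.card F)) : (2 : F) ≠ 0 := fun h => by
  obtain ⟨k, hk⟩ := hF
  have h1 : ((Fintype.card F : ℕ) : F) = 0 := FiniteField.cast_card_eq_zero F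
  rw [hk] at h1
  push_cast at h1
  rw [h, zero_mul, zero_add] at h1
  exact one_ne_zero h1

end Cfsg.Agent.H14.GLCen
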