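import Cfsg.Agent.H12.Lin
import Cfsg.Agent.H12.Triangle
import Cfsg.Agent.H12.Transport

/-! The subgroups `A₅` of `PSL₂(11)`. -/

set_option autoImplicit false

namespace Cfsg.Agent.H14.L211

open Matrix
open scoped MatrixGroups Pointwise

instance fact11 : Fact (Nat.Prime 11) := ⟨by norm_num⟩

/-- entries -/
abbrev T4 : Type := ZMod 11 × ZMod 11 × ZMod 11 × ZMod 11

/-- product -/
def m4 (s t : T4) : T4 :=
  (s.1 * t.1 + s.2.1 * t.2.2.1, s.1 * t.2.1 + s.2.1 * t.2.2.2,
    s.2.2.1 * t.1 + s.2.2.2 * t.2.2.1, s.2.2.1 * t.2.1 + s.2.2.2 * t.2.2.2)
/-- inverse -/
def i4 (s : T4) : T4 := (s.2.2.2, -s.2.1, -s.2.2.1, s.1)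
/-- negative -/
def n4 (s : T4) : T4 := (-s.1, -s.2.1, -s.2.2.1, -s.2.2.2)
/-- determinant -/
def d4 (s : T4) : ZMod 11 := s.1 * s.2.2.2 - s.2.1 * s.2.2.1
/-- equality up to sign -/
def Pm (s t : T4) : Prop := s = t ∨ s = n4 t
instance (s t : T4) : Decidable (Pm s t) := by unfold Pm; infer_instance
/-- identity -/
def o4 : T4 := (1, 0, 0, 1)

/-- entries of a matrix -/
def tup (M : SL(2, ZMod 11)) : T4 := (M 0 0, M 0 1, M 1 0, M 1 1)

/-- matrix with given entries -/
def mk (t : T4) (h : d4 t = 1) : SL(2, ZMod 11) :=
  ⟨!![t.1, t.2.1; t.2.2.1, t.2.2.2], by rw [det_fin_two_of]; exact h⟩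

lemma tup_mk (t : T4) (h : d4 t = 1) : tup (mk t h) = t := rfl
lemma tup_mul (M N : SL(2, ZMod 11)) : tup (M * N) = m4 (tup M) (tup N) := by
  simp [tup, m4, Matrix.mul_apply, Fin.sum_univ_two]
lemma tup_inv (M : SL(2, ZMod 11)) : tup M⁻¹ = i4 (tup M) := by
  simp [tup, i4, Matrix.SpecialLinearGroup.SL2_inv_expl]
lemma tup_one : tup 1 = o4 := rfl
lemma tup_neg (M : SL(2, ZMod 11)) : tup (-M) = n4 (tup M) := rfl
lemma d4_tup (M : SL(2, ZMod 11)) : d4 (tup M) = 1 := (det_fin_two M.1).symm.trans M.2
lemma tup_inj {M N : SL(2, ZMod 11)} (h : tup M = tup N) : M = N := by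
  simp only [tup, Prod.mk.injEq] at h
  ext i j
  fin_cases i <;> fin_cases j
  exacts [h.1, h.2.1, h.2.2.1, h.2.2.2]

/-- the projective group -/
abbrev P : Type := PSL(2, ZMod 11)

/-- the projection -/
def pr : SL(2, ZMod 11) →* P := QuotientGroup.mk' _

lemma pr_surj : Function.Surjective pr := QuotientGroup.mk'_surjective _

lemma sq_cases : ∀ r : ZMod 11, r ^ 2 = 1 → r = 1 ∨ r = -1 := by decide

lemma pr_eq_one {M : SL(2, ZMod 11)} : pr M = 1 ↔ M = 1 ∨ M = -1 := by
  refine (QuotientGroup.eq_one_iff _).trans ⟨fun hz => ?_, ?_⟩
  · obtain ⟨r, hr, e⟩ := Matrix.SpecialLinearGroup.mem_center_iff.1 hz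
    rcases sq_cases r (by simpa using hr) with rfl | rfl
    · exact Or.inl (Subtype.ext (by rw [← e]; simp))
    · exact Or.inr (Subtype.ext (by rw [← e]; decide +kernel))
  · rintro (rfl | rfl)
    · exact one_mem _
    · exact Subgroup.mem_center_iff.2 fun g => by simp

lemma pr_eq {M N : SL(2, ZMod 11)} : pr M = pr N ↔ Pm (tup M) (tup N) := by
  rw [← mul_inv_eq_one, ← map_inv, ← map_mul, pr_eq_one, mul_inv_eq_one, mul_inv_eq_iff_eq_mul,
    neg_one_mul, Pm, ← tup_neg]
  exact ⟨fun h => h.imp (congrArg tup) (congrArg tup), fun h => h.imp tup_inj tup_inj⟩

lemma forall_SL {Q : T4 → Prop} (h : ∀ a b c d : ZMod 11, d4 (a, b, c, d) = 1 → Q (a, b, c, d))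
    (M : SL(2, ZMod 11)) : Q (tup M) := h _ _ _ _ (d4_tup M)

/-- membership test -/
def inM (m : ℕ) (t : T4) : Bool :=
  m.testBit (t.1.val + 11 * t.2.1.val + 121 * t.2.2.1.val + 1331 * t.2.2.2.val)

/-- closure test -/
def Cl (m : ℕ) (s u t : T4) : Prop := inM m t = true →
  inM m (m4 s t) = true ∧ inM m (m4 u t) = true ∧ inM m (m4 (i4 s) t) = true ∧
    inM m (m4 (i4 u) t) = true
instance (m : ℕ) (s u t : T4) : Decidable (Cl m s u t) := by unfold Cl; infer_instance

lemma inM_of_mem {m : ℕ} {A B : SL(2, ZMod 11)} (h1 : inM m o4 = true ∧ inM m (n4 o4) = true)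
    (h : ∀ a b c d : ZMod 11, d4 (a, b, c, d) = 1 → Cl m (tup A) (tup B) (a, b, c, d))
    {M : SL(2, ZMod 11)} (hM : pr M ∈ Subgroup.closure {pr A, pr B}) : inM m (tup M) = true := by
  have key : ∀ x ∈ Subgroup.closure {pr A, pr B}, ∀ M, pr M = x → inM m (tup M) = true := by
    intro x hx
    induction hx using Subgroup.closure_induction_left with
    | one =>
      intro M hM
      rcases pr_eq_one.1 hM with rfl | rfl
      exacts [h1.1, h1.2]
    | mul_left y hy z _ ih =>
      intro M hM
      rcases hy with rfl | rfl
      · have := (forall_SL h _ (ih (A⁻¹ * M) (by simp [hM]))).1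
        rwa [← tup_mul, mul_inv_cancel_left] at this
      · have := (forall_SL h _ (ih (B⁻¹ * M) (by simp [hM]))).2.1
        rwa [← tup_mul, mul_inv_cancel_left] at this
    | inv_mul_cancel y hy z _ ih =>
      intro M hM
      rcases hy with rfl | rfl
      · have := (forall_SL h _ (ih (A * M) (by simp [hM]))).2.2.1
        rwa [← tup_inv, ← tup_mul, inv_mul_cancel_left] at this
      · have := (forall_SL h _ (ih (B * M) (by simp [hM]))).2.2.2
        rwa [← tup_inv, ← tup_mul, inv_mul_cancel_left] at this
  exact key _ hM M rfl

/-- generators -/
def gB : SL(2, ZMod 11) := mk (0, 10, 1, 10) (by decide)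
/-- generators -/
def gA : SL(2, ZMod 11) := mk (0, 2, 5, 0) (by decide)
/-- generators -/
def gA' : SL(2, ZMod 11) := mk (0, 4, 8, 0) (by decide)
/-- the first subgroup -/
def H : Subgroup P := Subgroup.closure {pr gA, pr gB}
/-- the second subgroup -/
def K : Subgroup P := Subgroup.closure {pr gA', pr gB}
/-- the elements over `H` -/
def mH : ℕ := 0x8000000000000000000000000000000000000000000000000000008000000000000000000000400000000000000000000000100000000000000000000000000000000200000000000000000000001000000000000000000000000000000000000000000000400000000000000000000000000080000000000000020000000000000000000000000200000000000000000000000000000000000000000000000000000010000000000002000000000000000000000000000400000000000000000000004000000000000000000000000000000000000000000000001000000000000000000000000000200000000000000000000000000000000000000000020000000000000000000000000400000000000000000000000000000040000000000000000000000000100000000000000000000010000000000000000000008000000000000000000000000000000000002000000000000000000000000000000000800000000000000000000001000000000000000000000000000000000000000000001000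00000000000000000000010000000000000000008000000000000000000000000000000000000000000000000000008000000000000000000000000001000001000000000000000000000000000000000000000000000000002000000000000000000000040000000000000000000000008000000000000000000000000000000000004000000000000000000000100000000000000000000000000000000000000000000000000100000000000000000000000004000000000000000000000000000000002000000000000000000000000800000000000008000000000000000000000000001000000000000000000000000000000000000000000000200000000000000000000000080000000000000000000000000000000000020000000000000000000000000004000000000000001000000000000000000000000000000000000000000000000000000020000000000000000000000000004000000000000000000000000000000000002000000000000000000000800000000000000000000100000000000000000000000002000000000000000000000000000000020000000000000000000000000800000000000000000000000000000000000000000080000000000000000000000000000000800000000000000000000000010000000000000000000002000000000000000000000000000000000000000000000000000400000400000000000000000000000000080000000000000000000000000000000000000000000000000000001000000000000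00040000000000000000000000000008000000000000000000000000000000000000000000400000000000000000800000000000000000000000000000000000000000000100000000000000000000000000020000000000000200000000000000000000000080000000000000000000000000000000040000000000000000000000000000000000000000000000000000000800000000000000000001000000000000000000000040000000000000000000000000000000000020000000000000000000000000004000000000000000000080000000000000000000000000000000000000000000000000100000100000000000000000000000000000000000000000000000000000000010000000000000000000000020000000000000000010000000000000000000000000002000000000000000000000000000000000000000001000000000000000000000000004000000000000000000000000000000800000000000000000000000008000000000000000000000000000000100000000000000000000010000000000000000000000000040000000000000000000000000000004000000000000000000000000000000000000000000000000000000040000000000008000000000000000000000000001000000000000000000000000000000000000000000000000400000000000000000000004000000000000000000000000000800000000000000000000000000000000000400000000000000000000000000000000010000000000000000000000080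0000000000000200000000000000000000000000040000000000000000000000000000000000000000000010000000000000000000000080000000000000000000000000000000100000000000000000000000000080000000000000000002000000000000000000000000000000000000000000000000000002000000000000000000000000000000000001000000000000000000000000080000000000000000040000000000000000000000000000000000020000000000000000000000000000000080000000000000200000000000000000000000000000000000000000000000008000000000010000000000000000000000000000000040000000000000000000000000000000000020000000000000000010000000000000000000000000000000000000000000000000000000000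
/-- the elements over `K` -/
def mK : ℕ := 0x8000000000000000000000000800000000000000000000000000000010000000000000000000000000040000000000000000000000000000000000000000000000000008000000000000000000000100000000000000000000000000000000000400000000000000000000000000080000000000000000000000008000000000000000200000000000000000000000000000000000000000000000000000010000000000002000000000000000000000000000400000000000000000000000000000000001000000000000000000000040000000000000000000000000000000000000000000000000004000000000000000000000001000000000000000000000000000000000400000000000000000000010000000000000020000000000000000000000000000000000000000000000000000000002000000000000000080000000000000000000000002000000000000000000000000000000000008000000000000000000000000001000000000000000000000000400000000000000000000000000000000000000000000008000000000000000000000000001000000000000200000000000000000000000000000000000000000000000000000040010000000000000000000000000000000000000000000000000000000800000000000000000000800000000000000000000000020000000000000000000000000800000000000000000000000000000000000000000000000002000000000000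00000000000200000000000000000000000000000000000800000000000000000000000000100000000000000000000000200000000000000008000000000000000000000000001000000000000000000000000000000000000000000020000000000000000000000040000000000000000000000000000000000800000000000000000000000000000000000000000800000000000000000000000020000000000000000000000000000000080000000000000000000000004000000000000000000000400000000000000000000020000000000000000000000000000000000080000000000000000000000000010000000000000000000000000000000000000000000000000000000200000000000000008000000000000000000000000000000000000000004000000000000000000000000100000000000000000000000000020000000000000000000000000000000000080000000000000000000004000000000000000000000400000000000000000000000020000000000000000000000000000000080000000000000000000000002000000000000000000000000000000000000000002000000000000000000000000000400000000000000000000000000000080000000000000000000000000000000000000000001000000000000000000000000000200000000000000008000000000000000000000000020000000000000000000000002000000000000000000000000000000000000010000000000000000000000000000000000000000000000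000004000000000000000000020000000000000000000000000800000000000000000000000000000000080000000000020000000000000000000000000000000000000000000000000000001000000000000000000000000000000000200000000000000000000000080000000000010000000000000000000000000002000000000000000000000000000000000000000000000040000000000000000000000010000000000000000000000000002000000000000000000000000000000000008000000000000000000000040000000000000000000000000000000000000000000000004000000000000000000000000000800000000000001000000000000000000000040000000000000000000000000000000010000000000000000000000004000000000000000000000000000000000000000000000000000400000000000000000000010000000000000000000000000000000000040000000000000000000000000008000000000000000000000000400000000000000000000000000000000000000000000100000000000000004000000000000000000000200000000000000000000000000040000000000000000000000000000000000100000000000000000000002000000000000000000000000000000000000000000000000000400000000000000000000000001000000000000000000000000000000020000000000000000000000002000000000000000000000000000000000000000000001000000000000000000000000080000000000000002000000000000000000000000000000000000010000000000000000000000000000000100000000000010000000000000000000000000000000000000000000000000080000000000008000000000000000000000000000000000100000000000000000000000000000000000400000000000000010000000000000000000000000000000000000000000000000000000000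

lemma inH {M : SL(2, ZMod 11)} (hM : pr M ∈ H) : inM mH (tup M) = true :=
  inM_of_mem (by decide +kernel) (by decide +kernel) hM
lemma inK {M : SL(2, ZMod 11)} (hM : pr M ∈ K) : inM mK (tup M) = true :=
  inM_of_mem (by decide +kernel) (by decide +kernel) hM

lemma pr_pow_eq_one {M : SL(2, ZMod 11)} {k : ℕ} (h : M ^ k = 1 ∨ M ^ k = -1) : pr M ^ k = 1 := by
  rw [← map_pow]; exact pr_eq_one.2 h

lemma isoH : Nonempty (H ≃* alternatingGroup (Fin 5)) :=
  H12.nonempty_closure_equiv_alt5 (pr_pow_eq_one (by decide +kernel))
    (pr_pow_eq_one (by decide +kernel)) (by rw [← map_mul]; exact pr_pow_eq_one (by decide +kernel))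
    (by rw [Ne, pr_eq_one]; decide +kernel)
lemma isoK : Nonempty (K ≃* alternatingGroup (Fin 5)) :=
  H12.nonempty_closure_equiv_alt5 (pr_pow_eq_one (by decide +kernel))
    (pr_pow_eq_one (by decide +kernel)) (by rw [← map_mul]; exact pr_pow_eq_one (by decide +kernel))
    (by rw [Ne, pr_eq_one]; decide +kernel)

lemma card_P : Nat.card P = 660 := by
  have := H12.card_PSL2 (F := ZMod 11) (ZMod.card 11)
  have e : 2 * Nat.card P = 1320 := this
  omega

lemma card_of_iso {L : Subgroup P} (h : Nonempty (L ≃* alternatingGroup (Fin 5))) :
    Nat.card L = 60 := by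
  obtain ⟨e⟩ := h
  rw [Nat.card_congr e.toEquiv, H12.card_alt5]

lemma index_of_iso {L : Subgroup P} (h : Nonempty (L ≃* alternatingGroup (Fin 5))) :
    L.index = 11 := by
  have := L.card_mul_index
  rw [card_of_iso h, card_P] at this
  omega

lemma nonconj_aux : ∀ a b c d : ZMod 11, d4 (a, b, c, d) = 1 →
    ¬ (inM mK (m4 (m4 (a, b, c, d) (tup gA)) (i4 (a, b, c, d))) = true ∧
      inM mK (m4 (m4 (a, b, c, d) (tup gB)) (i4 (a, b, c, d))) = true) := by
  decide +kernel

lemma nonconj (g : P) : MulAut.conj g • H ≠ K := by
  intro h
  obtain ⟨g, rfl⟩ := pr_surj g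
  have k : ∀ A, pr A ∈ H → inM mK (m4 (m4 (tup g) (tup A)) (i4 (tup g))) = true := by
    intro A hA
    rw [← tup_inv, ← tup_mul, ← tup_mul]
    apply inK
    rw [← h]
    simpa using Subgroup.smul_mem_pointwise_smul _ (MulAut.conj (pr g)) _ hA
  exact forall_SL (Q := fun t => ¬ (inM mK (m4 (m4 t (tup gA)) (i4 t)) = true ∧
      inM mK (m4 (m4 t (tup gB)) (i4 t)) = true)) nonconj_aux g
    ⟨k _ (Subgroup.subset_closure (by simp)), k _ (Subgroup.subset_closure (by simp))⟩

/-- a conjugating element -/
def cj (t : T4) (x y s : ZMod 11) : T4 :=
  (x, s * (t.1 * x + t.2.1 * y), y, s * (t.2.2.1 * x + t.2.2.2 * y))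

/-- elements of order three are conjugate -/
def Q3 (t : T4) : Prop := Pm (m4 (m4 t t) t) o4 → Pm t o4 ∨ ∃ x y : ZMod 11, ∃ s ∈ [1, -1],
  d4 (cj t x y s) = 1 ∧ Pm (m4 t (cj t x y s)) (m4 (cj t x y s) (tup gB))
instance (t : T4) : Decidable (Q3 t) := by unfold Q3; infer_instance

lemma q3 : ∀ a b c d : ZMod 11, d4 (a, b, c, d) = 1 → Q3 (a, b, c, d) := by decide +kernel

/-- the partners of the element of order three -/
def Q2 (t : T4) : Prop := Pm (m4 t t) o4 →
  (fun u => Pm (m4 (m4 (m4 (m4 u u) u) u) u) o4) (m4 t (tup gB)) → Pm t o4 ∨
    ∃ c ∈ ([(1, 0, 0, 1), (2, 2, 9, 4), (0, 1, 10, 1), (9, 4, 7, 2), (10, 1, 10, 0), (7, 2, 9, 9)] : List T4),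
      d4 c = 1 ∧ Pm (m4 (m4 c (tup gB)) (i4 c)) (tup gB) ∧
      ∃ u ∈ ([tup gA, tup gA', (1, 1, 9, 10), (2, 1, 6, 9)] : List T4),
        Pm (m4 (m4 c t) (i4 c)) u
instance (t : T4) : Decidable (Q2 t) := by unfold Q2; infer_instance

lemma q2 : ∀ a b c d : ZMod 11, d4 (a, b, c, d) = 1 → Q2 (a, b, c, d) := by decide +kernel

lemma conj3 {b : P} (h : b ^ 3 = 1) (h1 : b ≠ 1) : ∃ g, g * b * g⁻¹ = pr gB := by
  obtain ⟨B, rfl⟩ := pr_surj b
  have e : Pm (m4 (m4 (tup B) (tup B)) (tup B)) o4 := by
    rw [← tup_mul, ← tup_mul, ← tup_one, ← pr_eq, map_mul, map_mul, map_one, ← h, pow_three']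
  rcases forall_SL q3 B e with k | ⟨x, y, s, -, hd, k⟩
  · rw [← tup_one, ← pr_eq, map_one] at k
    exact absurd k h1
  · rw [← tup_mk _ hd, ← tup_mul, ← tup_mul, ← pr_eq, map_mul, map_mul] at k
    exact ⟨(pr (mk _ hd))⁻¹, by rw [mul_assoc, inv_inv, k, inv_mul_cancel_left]⟩

lemma conj2 {a : P} (h : a ^ 2 = 1) (h1 : a ≠ 1) (h5 : (a * pr gB) ^ 5 = 1) :
    ∃ g, g * pr gB * g⁻¹ = pr gB ∧ (g * a * g⁻¹ ∈ H ∨ g * a * g⁻¹ ∈ K) := by
  obtain ⟨A, rfl⟩ := pr_surj a
  have e : Pm (m4 (tup A) (tup A)) o4 := by
    rw [← tup_mul, ← tup_one, ← pr_eq, map_mul, map_one, ← h, pow_two]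
  have e5 : (fun u => Pm (m4 (m4 (m4 (m4 u u) u) u) u) o4) (m4 (tup A) (tup gB)) := by
    simp only [← tup_mul]
    rw [← tup_one, ← pr_eq, map_one, ← h5, ← map_mul, ← map_pow]
    simp only [pow_succ, pow_zero, one_mul]
  rcases forall_SL q2 A e e5 with k | ⟨c, -, hd, k1, u, hu, k⟩
  · rw [← tup_one, ← pr_eq, map_one] at k
    exact absurd k h1
  · rw [← tup_mk _ hd, ← tup_inv, ← tup_mul, ← tup_mul] at k k1
    rw [← pr_eq, map_mul, map_mul, map_inv] at k1
    refine ⟨pr (mk _ hd), k1, ?_⟩
    rw [← map_inv, ← map_mul, ← map_mul]
    have a1 : pr gA ∈ H := Subgroup.subset_closure (by simp)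
    have b1 : pr gB ∈ H := Subgroup.subset_closure (by simp)
    have a2 : pr gA' ∈ K := Subgroup.subset_closure (by simp)
    have b2 : pr gB ∈ K := Subgroup.subset_closure (by simp)
    simp only [List.mem_cons, List.not_mem_nil, or_false] at hu
    rcases hu with rfl | rfl | rfl | rfl
    · exact Or.inl (pr_eq.2 k ▸ a1)
    · exact Or.inr (pr_eq.2 k ▸ a2)
    · have e : ((1, 1, 9, 10) : T4) =
          tup (gA * gA * gB * gA * gB * gA * gB * gB * gA * gB * gA) := by decide +kernel
      rw [e, ← pr_eq] at k
      left
      rw [k]
      simp only [map_mul]
      repeat' first | exact a1 | exact b1 | apply mul_mem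
    · have e : ((2, 1, 6, 9) : T4) =
          tup (gA' * gA' * gB * gA' * gB * gA' * gB * gB * gA' * gB * gA') := by decide +kernel
      rw [e, ← pr_eq] at k
      right
      rw [k]
      simp only [map_mul]
      repeat' first | exact a2 | exact b2 | apply mul_mem

lemma iso_conj {G A : Type*} [Group G] [Group A] (g : G) {L : Subgroup G} (h : Nonempty (L ≃* A)) :
    Nonempty ((MulAut.conj g • L : Subgroup G) ≃* A) :=
  h.map fun e => (Subgroup.equivSMul (MulAut.conj g) L).symm.trans e

lemma classify (L : Subgroup P) (h : Nonempty (L ≃* alternatingGroup (Fin 5))) :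
    ∃ g : P, MulAut.conj g • L = H ∨ MulAut.conj g • L = K := by
  obtain ⟨e⟩ := id h
  obtain ⟨r1, r2, r3, r4⟩ := H12.alt5_rels
  let f : alternatingGroup (Fin 5) →* P := L.subtype.comp e.symm.toMonoidHom
  have hf : Function.Injective f := L.subtype_injective.comp e.symm.injective
  have hL : L = Subgroup.closure {f H12.alt5a, f H12.alt5b} := by
    rw [← Set.image_pair, ← MonoidHom.map_closure, H12.closure_alt5, ← MonoidHom.range_eq_map,
      MonoidHom.range_comp, MonoidHom.range_eq_top.2 e.symm.surjective, ← MonoidHom.range_eq_map,
      Subgroup.range_subtype]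
  obtain ⟨g, hg⟩ := conj3 (b := f H12.alt5b) (by rw [← map_pow, r2, map_one])
    (fun h => absurd (hf (h.trans (map_one f).symm)) (by decide))
  obtain ⟨c, hc, hc'⟩ := conj2 (a := g * f H12.alt5a * g⁻¹)
    (by rw [conj_pow, ← map_pow, r1]; simp)
    (fun h => r4 (hf (by simpa using h)))
    (by rw [← hg, conj_mul, conj_pow, ← map_mul, ← map_pow, r3]; simp)
  have key : ∀ M : Subgroup P, Nonempty (M ≃* alternatingGroup (Fin 5)) → pr gB ∈ M →
      c * (g * f H12.alt5a * g⁻¹) * c⁻¹ ∈ M → MulAut.conj (c * g) • L = M := by
    intro M hM h1 h2
    refine Subgroup.eq_of_le_of_card_ge ?_ (by rw [card_of_iso hM, card_of_iso (iso_conj _ h)])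
    show L.map (MulAut.conj (c * g)).toMonoidHom ≤ M
    rw [hL, MonoidHom.map_closure, Subgroup.closure_le, Set.image_pair]
    rintro x (rfl | rfl)
    · simpa [mul_assoc] using h2
    · have : c * g * f H12.alt5b * (c * g)⁻¹ = pr gB := by
        rw [← hc, ← hg]; group
      exact (this ▸ h1 : c * g * f H12.alt5b * (c * g)⁻¹ ∈ M)
  exact ⟨c * g, hc'.imp (key H isoH (Subgroup.subset_closure (by simp)))
    (key K isoK (Subgroup.subset_closure (by simp)))⟩

instance simpleP : IsSimpleGroup P := H12.PSL_fin_simple 2 (by norm_num) (by simp)

lemma ncard_class {G : Type*} [Group G] (M : Subgroup G) :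
    {L | ∃ g : G, MulAut.conj g • M = L}.ncard = (Subgroup.normalizer (M : Set G)).index := by
  let _ : MulAction G (Subgroup G) := MulAction.compHom _ (MulAut.conj : G →* MulAut G)
  have : MulAction.stabilizer G M = Subgroup.normalizer (M : Set G) := by
    ext g
    exact Subgroup.conjAct_pointwise_smul_iff
  rw [← this, MulAction.index_stabilizer]
  rfl

lemma normalizer_eq {M : Subgroup P} (h : Nonempty (M ≃* alternatingGroup (Fin 5))) :
    Subgroup.normalizer (M : Set P) = M := by
  have h1 := Subgroup.index_dvd_of_le (M.le_normalizer)
  rw [index_of_iso h] at h1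
  rcases (Nat.dvd_prime (by norm_num)).1 h1 with k | k
  · rw [Subgroup.index_eq_one, Subgroup.normalizer_eq_top_iff] at k
    have hc := card_of_iso h
    rcases k.eq_bot_or_eq_top with rfl | rfl
    · simp at hc
    · rw [Subgroup.card_top, card_P] at hc
      omega
  · refine (Subgroup.eq_of_le_of_card_ge M.le_normalizer ?_).symm
    have := (Subgroup.normalizer (M : Set P)).card_mul_index
    rw [k, card_P] at this
    rw [card_of_iso h]
    omega

lemma card_all : Nat.card {L : Subgroup P // Nonempty (L ≃* alternatingGroup (Fin 5))} = 22 := by
  have e : {L : Subgroup P | Nonempty (L ≃* alternatingGroup (Fin 5))} =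
      {L | ∃ g : P, MulAut.conj g • H = L} ∪ {L | ∃ g : P, MulAut.conj g • K = L} := by
    ext L
    constructor
    · intro h
      obtain ⟨g, k | k⟩ := classify L h
      · exact Or.inl ⟨g⁻¹, by rw [← k, map_inv, inv_smul_smul]⟩
      · exact Or.inr ⟨g⁻¹, by rw [← k, map_inv, inv_smul_smul]⟩
    · rintro (⟨g, rfl⟩ | ⟨g, rfl⟩)
      exacts [iso_conj g isoH, iso_conj g isoK]
  refine (Nat.card_coe_set_eq {L : Subgroup P | Nonempty (L ≃* alternatingGroup (Fin 5))}).trans ?_
  rw [e, Set.ncard_union_eq, ncard_class, ncard_class, normalizer_eq isoH, normalizer_eq isoK,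
    index_of_iso isoH, index_of_iso isoK]
  rw [Set.disjoint_left]
  rintro _ ⟨g, rfl⟩ ⟨k, hk⟩
  exact nonconj (k⁻¹ * g) (by rw [map_mul, mul_smul, ← hk, map_inv, inv_smul_smul])

/-- words -/
def wd (i : Fin 10) : SL(2, ZMod 11) :=
  ![1, gA, gB, gA * gB, gB * gB, gA * gB * gB, gB * gA * gB, gA * gB * gA * gB, gB * gA * gB * gB,
    gB * gB * gA * gB] i
/-- an element outside `H` -/
def gX : SL(2, ZMod 11) := mk (1, 1, 0, 1) (by decide)
/-- coset representatives -/
def rp (i : Option (Fin 10)) : SL(2, ZMod 11) := i.elim 1 fun j => wd j * gX

lemma rp_inj : ∀ i j, inM mH (m4 (i4 (tup (rp i))) (tup (rp j))) = true → i = j := by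
  decide +kernel

lemma wd_mem (i : Fin 10) : pr (wd i) ∈ H := by
  have a1 : pr gA ∈ H := Subgroup.subset_closure (by simp)
  have b1 : pr gB ∈ H := Subgroup.subset_closure (by simp)
  fin_cases i <;> simp only [wd, Fin.zero_eta, Fin.mk_one, Fin.reduceFinMk, Matrix.cons_val,
    map_mul, map_one] <;> repeat' first | exact a1 | exact b1 | exact one_mem _ | apply mul_mem

lemma two_trans : MulAction.IsMultiplyPretransitive P (P ⧸ H) 2 := by
  have hb : Function.Bijective fun i => ((pr (rp i) : P) : P ⧸ H) := by
    rw [Nat.bijective_iff_injective_and_card]
    refine ⟨fun i j h => rp_inj i j ?_, ?_⟩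
    · rw [← tup_inv, ← tup_mul]
      exact inH (by simpa using QuotientGroup.eq.1 h)
    · rw [← Subgroup.index_eq_card, index_of_iso isoH]; simp
  have key : ∀ a b : P ⧸ H, a ≠ b → ∃ g : P, g • ((1 : P) : P ⧸ H) = a ∧ g • (pr gX : P ⧸ H) = b := by
    intro a b hab
    obtain ⟨a, rfl⟩ := QuotientGroup.mk_surjective a
    obtain ⟨i, hi⟩ := hb.2 (a⁻¹ • b)
    cases i with
    | none =>
      refine absurd ?_ hab
      rw [eq_inv_smul_iff] at hi
      rw [← hi]
      simp [rp]
    | some j =>
      refine ⟨a * pr (wd j), ?_, ?_⟩
      · rw [MulAction.Quotient.smul_mk, QuotientGroup.eq]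
        simpa using wd_mem j
      · rw [eq_inv_smul_iff] at hi
        rw [← hi]
        simp [rp, mul_assoc]
  rw [MulAction.is_two_pretransitive_iff]
  intro a b c d h1 h2
  obtain ⟨g, g1, g2⟩ := key a b h1
  obtain ⟨k, k1, k2⟩ := key c d h2
  exact ⟨k * g⁻¹, by rw [← g1, mul_smul, inv_smul_smul, k1], by rw [← g2, mul_smul, inv_smul_smul, k2]⟩

end Cfsg.Agent.H14.L211
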