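import Cfsg.Agent.H14.Mu3
import Cfsg.Agent.H14.Tor4
import Cfsg.Agent.H14.Lift4
import Cfsg.Agent.H15.TwIE
import Cfsg.Agent.H15.TwA2

/-! The Schur multiplier of the twisted groups of type `E₆`. -/

set_option autoImplicit false
set_option linter.style.haveILetI false

namespace Cfsg.Agent.H14.Mu

open Cfsg.Agent.H15 Cfsg.Agent.H27 Subgroup Cfsg.Lie Cfsg.Lie.ChevalleyDatum
open scoped commutatorElement

section gen
variable {ι Φ : Type} [Fintype ι] [DecidableEq ι] {R : RS ι Φ} {K : Type*} [Field K] {G : Type*} [Group G]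
variable {X : RG R K G}

theorem Lv.of_f {lv : Φ → ℕ} {m : ℕ} (hm : ∀ r, R.pos r ↔ lv r < m) (f : (ι → ℤ) →ₗ[ℤ] ℤ) {F : Φ → ℤ}
    (hF : ∀ r, f (R.vec r) = F r) (h1 : ∀ r, lv r < m → 0 < F r)
    (h2 : ∀ k s, lv k < m → lv s < m → F s < F k → lv k < lv s) : Lv X lv :=
  Lv.of_comb fun r s k a b c => h2 k s ((hm k).1 (RS.comb_pos c a b)) ((hm s).1 b) (by
    have a1 := h1 r ((hm r).1 a)
    have a2 := h1 s ((hm s).1 b)
    have := RS.comb_f_ge f c (hF r ▸ a1.le) (hF s ▸ a2.le)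
    rw [hF, hF, hF] at this; omega)

theorem prod_zpow_mul {A : Type*} [CommGroup A] (t : A) (v a : ι → ℤ) :
    ∏ i, (t ^ v i) ^ a i = t ^ ∑ i, v i * a i := by
  simp only [← zpow_mul]
  exact (map_prod (zpowersHom A t) (fun i => Multiplicative.ofAdd (v i * a i)) _).symm.trans (by
    rw [← ofAdd_sum]; rfl)

theorem zpow_pow' {A : Type*} [Group A] (t : A) (a : ℤ) (n : ℕ) : (t ^ a) ^ n = (t ^ n) ^ a := by
  rw [← zpow_natCast, zpow_comm, zpow_natCast]

theorem h_eq_tor {tor : (ι → Kˣ) →* G} (h1 : ∀ i (t : Kˣ), tor (Pi.mulSingle i t) = X.h (R.simple i) t) (i : ι)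
    {a : K} (ha : a ≠ 0) : X.h (R.simple i) a = tor (Pi.mulSingle i (Units.mk0 a ha)) := (h1 i (Units.mk0 a ha)).symm

variable {κ : Type} [Finite Φ] {S : TwO X κ} {k : κ}

theorem nod_one {i : ι} (hJ : ∀ a, a ∈ S.J k ↔ a = i) (hτ : S.τ i = i) :
    Nod S k (stOne X (R.simple i) ((S.g i).eqLocusField (RingHom.id K)).subtype) :=
  ⟨fun g => (S.one_pos hJ hτ g).trans ⟨fun ⟨t, h, e⟩ => ⟨⟨t, h⟩, e⟩, fun ⟨t, e⟩ => ⟨t, t.2, e⟩⟩,
    fun g => (S.one_neg hJ hτ g).trans ⟨fun ⟨t, h, e⟩ => ⟨⟨t, h⟩, e⟩, fun ⟨t, e⟩ => ⟨t, t.2, e⟩⟩⟩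

theorem nod_two {i j : ι} (hJ : ∀ a, a ∈ S.J k ↔ a = i ∨ a = j) (hij : i ≠ j) (hτ : S.τ i = j) (hτ' : S.τ j = i)
    (hc : R.car i j = 0) (hg : ∀ t, S.g j (S.g i t) = t) :
    Nod S k (stMul _ _ (stC_one (X := X) hij hc (RingHom.id K) (S.g i))) :=
  ⟨S.two_pos hJ hij hτ hτ' hc hg, S.two_neg hJ hij hτ hτ' hc hg⟩

theorem x_mem_iff {i : ι} (hJ : ∀ a, a ∈ S.J k ↔ a = i) (hτ : S.τ i = i) (t : K) :
    X.x (R.simple i) t ∈ S.T ↔ t ∈ (S.g i).eqLocusField (RingHom.id K) := by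
  refine ⟨fun ht => ?_, fun ht => S.XP_le k ((S.one_pos hJ hτ _).2 ⟨t, ht, rfl⟩)⟩
  have := (S.T_le_Fix ht).2
  rw [S.s_pos, hτ] at this
  exact X.x_injective _ this

theorem map_T {G' : Type*} [Group G'] {X' : RG R K G'} {S' : TwO X' κ} (π : G' →* G)
    (h : ∀ k, (S'.XP k).map π = S.XP k ∧ (S'.XM k).map π = S.XM k) : S'.T.map π = S.T := by
  simp only [TwO.T, Subgroup.map_iSup, Subgroup.map_sup, h]

theorem Nod.map {G' : Type*} [Group G'] {X' : RG R K G'} {S' : TwO X' κ} {π : G' →* G} {F : Type*} [Field F]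
    {D : H29.StData F G} {D' : H29.StData F G'} (h : Nod S k D) (h' : Nod S' k D') (h1 : ∀ t, π (D'.x t) = D.x t)
    (h2 : ∀ t, π (D'.y t) = D.y t) : (S'.XP k).map π = S.XP k ∧ (S'.XM k).map π = S.XM k := by
  constructor <;> ext g <;> simp [h.x, h.y, h'.x, h'.y, h1, h2, eq_comm]

theorem perfect_of_cover [Finite K] [Finite S.T] (p : ℕ) [Fact p.Prime] [CharP K p] {Q : Type*} [Group Q]
    {θ : S.T →* Q} (hs : Function.Surjective θ) (hQ : commutator Q = ⊤) (hk : θ.ker ≤ HT S) : commutator S.T = ⊤ := by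
  have h1 : ∀ g : S.T, PElt p g → g ∈ commutator S.T := fun g ⟨n, hn⟩ => by
    have : θ g ∈ (commutator S.T).map θ := by
      rw [commutator_def, Subgroup.map_commutator, Subgroup.map_top_of_surjective _ hs, ← commutator_def, hQ]; trivial
    obtain ⟨c, hc, e⟩ := this
    have h2 : c⁻¹ * g ∈ HT S := hk (by simp [e])
    obtain ⟨y, e1⟩ := (X.torX_range X.hmul_of_finite).ge h2
    have h3 : (c⁻¹ * g) ^ Nat.card Kˣ = 1 := Subtype.ext (by
      rw [Subgroup.coe_pow, show ((c⁻¹ * g : S.T) : G) = _ from e1.symm, ← map_pow,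
        show y ^ Nat.card Kˣ = 1 from funext fun i => pow_card_eq_one', map_one]; rfl)
    rw [SetLike.mem_coe, ← QuotientGroup.eq_one_iff] at hc
    rw [← QuotientGroup.eq_one_iff]
    have h4 := congrArg (QuotientGroup.mk' (commutator S.T)) h3
    have h5 := congrArg (QuotientGroup.mk' (commutator S.T)) hn
    simp only [map_pow, map_mul, map_inv, QuotientGroup.mk'_apply, hc, inv_one, one_mul, map_one] at h4 h5
    have := pow_gcd_eq_one.2 ⟨h4, h5⟩
    rwa [Nat.Coprime.gcd_eq_one, pow_one] at this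
    letI := Fintype.ofFinite K
    obtain ⟨m, -, hm⟩ := FiniteField.card K p
    rw [Nat.card_units, Nat.card_eq_fintype_card, hm]
    exact (((Nat.coprime_self_sub_left (Nat.one_le_pow _ _ (Fact.out : p.Prime).pos)).2 (Nat.coprime_one_left _)).coprime_dvd_right
      (dvd_pow_self p m.ne_zero)).pow_right n
  rw [eq_top_iff, ← iSup_sg]
  exact iSup_le fun a g hg => h1 g (PElt.of_mem ((sr S).isPGroup_X sr_U a) hg)

end gen

theorem small_ne {K : Type*} [Field K] [Fintype K] {t : Kˣ} (ht : ∀ x, x ∈ zpowers t) {n : ℤ} (h0 : n ≠ 0)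
    (h1 : |n| + 1 < Fintype.card K) : t ^ n ≠ 1 := fun e => by
  have := orderOf_dvd_iff_zpow_eq_one.2 e
  rw [orderOf_eq_card_of_forall_mem_zpowers ht, Nat.card_units, Nat.card_eq_fintype_card] at this
  exact h0 (Int.eq_zero_of_abs_lt_dvd this (by have := Fintype.card_pos (α := K); push_cast [this]; omega))

theorem tor_fx {D : ChevalleyDatum} (G : Good D) {K : Type*} [Field K] {c : Fin D.rank → Kˣ} {r : Fin D.nroots}
    (h : ∏ i, c i ^ D.cartan i r = 1) : G.tor K c * (G.rg K).x r 1 * (G.tor K c)⁻¹ = (G.rg K).x r 1 := by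
  rw [tor_conj, h]; simp

theorem tor_simple {D : ChevalleyDatum} (G : Good D) {K : Type*} [Field K] {A : Fin D.rank → Fin D.rank → ℤ}
    (hA : G.R.car = A) (c : Fin D.rank → Kˣ) (j : Fin D.rank) (t : K) :
    G.tor K c * (G.rg K).x (G.R.simple j) t * (G.tor K c)⁻¹ = (G.rg K).x (G.R.simple j) ((∏ i, c i ^ A i j : Kˣ) * t) := by
  simp only [tor_conj, G.cartan_eq, RS.vec_simple, RS.ap_single, hA]

variable {K : Type*} [Field K] [Fintype K] {q : ℕ}

def lvE (r : ℕ) : ℕ := getW 8 256 0x102030403050607080c0a0b0e1114040609080d100c1013170b0f12150e12161115147879757a76727976736f7b77747074716c6d6a687875726f6e706c6b6a69676867666564 r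

def ctE (i j : ℕ) (a : Fin 6) : ℤ := (chevE6.coroot.getD (getW 8 256 0x25242525242424242424242424242424242424242535352c00242c2c242424242424242424242424242424242c2c303c2e00352e2e352e2e2e2e2e2e2e3c2e2e353c353c3c2e2e272e27002727272e2e27272e2e2e2727272727454527272e2828242800242424242424242424242424242424243328332f2f2f333c002f2f2f333c2f2f2f2f333c2f2f333c2f3c2f2c2e2c2c2c2c002e2e2e2c2c2c2e2c2e2c412c2c412c2c2e273f272c272727003f27272c2c3f27272727272c3f27273f2726262626262726002627262626262626262726262627302c2f2c2c2c2c2f2f2f002c2c2c2f2c3f2c2f2c2c3f2c2c2f2826262626262826282600262626262626262f262626282f2733273327272733332727003c332727272727333c27273327332733272727333327273f00332727272727333f272733272527252525252525252525250027252725252525252731292529252525252525252525252900252e2525252525292e2c2f2c2c2c2c2f2f2f3c2c2c2c2f2c002c2f2c2c3c2c2c2f29252925252525252525252525292f25002525252525292f2c2e2c2c2c2c3c2e2e2e2c2c2c2e2c2e2c002c2c3c2c2c2e282626262626282628262e2626262626262600262626282e272e273c2727272e2e27272e2e2e2727272727003c27272e272e272c2727272e2e27272c2c2e27272727272c0027272e282824282e2424242424242424242424242424242400282e2f252425252424242424242424242424242424242425002f272524252524242424242424242424242424242424252700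 (24 * i + j)) #[]).getD a 0

def exE (v : Fin 6 → ℤ) (r : ℕ) : ℤ := ∑ a : Fin 6, v a * chevE6.cartan a r

theorem certE : ∀ r s : Fin 72, lvE r < 24 → lvE s < 24 → lvE r ≠ lvE s →
    exE (ctE (lvE r) (lvE s)) r = 0 ∧ exE (ctE (lvE r) (lvE s) ∘ τ6) r = 0 ∧
    |exE (ctE (lvE r) (lvE s)) s| ≤ 1 ∧ |exE (ctE (lvE r) (lvE s) ∘ τ6) s| ≤ 1 ∧
    (exE (ctE (lvE r) (lvE s)) s ≠ 0 ∨ exE (ctE (lvE r) (lvE s) ∘ τ6) s ≠ 0) := by decide +kernel

theorem lvE_surj : ∀ i < 24, ∃ r : Fin 72, lvE r = i := by decide +kernel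

theorem posE (r : Fin 72) : R6.pos r ↔ lvE r < 24 :=
  (goodE6.isPosRoot_iff r).symm.trans (by revert r; decide +kernel)

theorem sepE {S : TwO (X6 K) (Fin 4)} (h : H15.IsE6 S q) (h2 : q ≠ 2) {i j : ℕ} (hi : i < 24) (hj : j < 24) (hij : i ≠ j) :
    ∃ t ∈ (X6 K).H, t ∈ S.T ∧ Fx (X6 K) t (LO R6 (fun r => lvE r) i) ∧ Fp (X6 K) t (LO R6 (fun r => lvE r) j) := by
  obtain ⟨t, ht⟩ := IsCyclic.exists_generator (α := Kˣ)
  have h1 : (t ^ q) ^ q = t := Units.ext (by simpa [h.g] using h.gg 0 0 t)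
  have := h.H_eq.ge ⟨fun a => t ^ ctE i j a * (t ^ q) ^ ctE i j (τ6 a), h.mem_CFix.2 fun a => by
    rw [mul_pow, zpow_pow', zpow_pow', h1, mul_comm, (by decide : ∀ a, τ6 (τ6 a) = a)], rfl⟩
  have e : ∀ r : Fin 72, ∏ a : Fin 6, (t ^ ctE i j a * (t ^ q) ^ ctE i j (τ6 a)) ^ chevE6.cartan a r =
      t ^ (exE (ctE i j) r + q * exE (ctE i j ∘ τ6) r) := fun r => by
    simp only [mul_zpow, Finset.prod_mul_distrib, prod_zpow_mul, zpow_add, zpow_mul, zpow_natCast]; rfl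
  obtain ⟨r0, rfl⟩ := lvE_surj i hi
  obtain ⟨s0, rfl⟩ := lvE_surj j hj
  refine ⟨_, this.1, this.2, fun r hr => tor_fx goodE6 ((e r).trans ?_), fun s hs => tor_conj_ne goodE6 ((e s).trans_ne ?_)⟩
  · have e1 : lvE r = lvE r0 := hr.2
    have := certE r s0 (e1 ▸ hi) hj (e1 ▸ hij)
    rw [e1] at this
    simp [this.1, this.2.1]
  · have e1 : lvE s = lvE s0 := hs.2
    have := (certE r0 s hi (e1 ▸ hj) (e1 ▸ hij)).2.2
    rw [e1] at this
    obtain ⟨a1, a2, a3⟩ := this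
    have hq : (3 : ℤ) ≤ q := by have := h.hq; omega
    rw [abs_le] at a1 a2
    generalize exE _ s = a, exE _ s = b at *
    refine small_ne ht ?_ ?_
    · obtain ⟨_, _⟩ := a1; obtain ⟨_, _⟩ := a2
      interval_cases a <;> interval_cases b <;> omega
    · rw [h.hK]; push_cast
      have : |a + q * b| ≤ q + 1 := abs_le.2 ⟨by nlinarith, by nlinarith⟩
      nlinarith

omit [Fintype K] in
theorem lv_E6 : Lv (X6 K) fun r : Fin 72 => lvE r :=
  Lv.of_f posE (fL goodE6 ([(16, 0), (22, 1), (30, 2), (42, 3), (30, 4), (16, 5)] : List (ℤ × Fin 6)))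
    (F := fun r : Fin 72 => (([(16, 0), (22, 1), (30, 2), (42, 3), (30, 4), (16, 5)] : List (ℤ × Fin 6)).map
      fun p => p.1 * chevE6.cartan p.2 r).sum) (fun r => fL_apply goodE6 _ r) (by decide +kernel) (by decide +kernel)

theorem closedAt_E6 {S : TwO (X6 K) (Fin 4)} (h : H15.IsE6 S q) (h2 : q ≠ 2) (p : ℕ) [Fact p.Prime] [CharP K p] :
    ClosedAt p S.T := by
  haveI := h.finite
  have hP : ∀ k (r : Fin 72), r ∈ PJ R6 (S.J k) ↔ lvE r = ![23, 22, 21, 20] k := fun k r => by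
    rw [TwO.J, h.o]
    exact (mem_PJ_iff goodE6 r).trans ((by decide +kernel : ∀ k (r : Fin 72), (chevE6.IsPosRoot r ∧
      ∀ i : Fin 6, o6 i ≠ k → (chevE6.coroot.getD r #[]).getD i 0 = 0) ↔ lvE r = ![23, 22, 21, 20] k) k r)
  refine closedAt_ab (lv := fun r : Fin 72 => lvE r) p lv_E6 posE (fun k r s => ?_) (fun k r hr s => by rw [hP] at hr ⊢; rw [hr])
    (fun j hj => ?_) (fun i hi j hj hij => let ⟨t, a, b, c⟩ := sepE h h2 hi hj hij; ⟨t, a, b, Or.inl c⟩)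
    fun Γ _ σ hs hc k => ?_
  · rw [h.wJ_eq', wp6, wp6]
    revert k r s; decide +kernel
  · obtain ⟨t, a, b, c⟩ := sepE h h2 (i := if j = 0 then 1 else 0) (by split_ifs <;> omega) hj (by split_ifs <;> omega)
    exact ⟨t, a, b, c.2⟩
  have lg : ∀ {k k' : Fin 4} {i j : Fin 6} (hk : ∀ a, a ∈ S.J k ↔ a = i) (hi : τ6 i = i)
      (hk' : ∀ a, a ∈ S.J k' ↔ a = j) (hj : τ6 j = j) (hw : S.wJ k' = R6.wp [j]) (hij : R6.car j i = -1) {ε : K}
      (hε : ε ≠ 0) (hc : ∀ t u, (X6 K).x (R6.simple j) u * (X6 K).x (R6.simple i) t = (X6 K).x (R6.simple i) t *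
        (X6 K).x (R6.simple j) u * (X6 K).x (R6.srefl j (R6.simple i)) (ε * t * u)), CL σ (bs S k).sg (bs S k).sg := by
    intro k k' i j hk hi hk' hj hw hij ε hε hx
    have e : R6.car i j = -1 := by
      rw [car6] at hij ⊢; exact (by decide : ∀ i j, carE6 j i = -1 → carE6 i j = -1) i j hij
    refine cl_long hs hc (x_mem_iff hk ((h.τ_eq i).trans hi)) one_ne_zero ((x_mem_iff hk' ((h.τ_eq j).trans hj) 1).2
      (one_mem _)) hε hx ((X6 K).commute_sl (slE6 _) ?_) ((X6 K).commute_sl (slE6 _) ?_) (S.nJ_mem_T k') (S.rep_nJ k')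
      (by simp [hw]) fun g hg => let ⟨t, _, e⟩ := (S.one_pos hk ((h.τ_eq i).trans hi) _).1 (mem_bs.1 hg); ⟨t, e⟩
    · rw [← R6.pair_srefl j, RS.srefl_srefl, RS.pair_simple, RS.vec_srefl]; simp [RS.vec_simple, e, hij]
    · rw [← R6.pair_srefl j, RS.srefl_srefl]; simp [RS.pair_simple_simple, e]
  have sh : ∀ {k : Fin 4} {i j : Fin 6} (hJ : ∀ a, a ∈ S.J k ↔ a = i ∨ a = j) (hij : i ≠ j) (hτ : τ6 i = j)
      (hτ' : τ6 j = i) (hc : carE6 i j = 0) (c : Kˣ → Fin 6 → Kˣ) (c1 : ∀ u a, c u (τ6 a) = c u a ^ q)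
      (c2 : ∀ u, ∏ a, c u a ^ carE6 a i = u) (c3 : ∀ u, ∏ a, c u a ^ carE6 a j = u ^ q), CL σ (bs S k).sg (bs S k).sg := by
    intro k i j hJ hij hτ hτ' hc' c c1 c2 c3
    have N := nod_two hJ hij ((h.τ_eq i).trans hτ) ((h.τ_eq j).trans hτ') ((car6 i j).trans hc') (h.gg _ _)
    refine cl_tensor hs hc N.st.x N.st.x_add N.mem_x fun φ _ => ?_
    by_contra hcon
    push Not at hcon
    have := card_le_of_hom_inv φ {1} fun u hu => Finset.mem_singleton.2 (hcon u hu ?_)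
    · have h3 : 3 ≤ q := by have := h.hq; omega
      rw [h.hK] at this; simp at this; nlinarith
    refine ⟨⟨_, (h.H_eq.ge ⟨c (Units.mk0 u hu), h.mem_CFix.2 (c1 _), rfl⟩).2⟩, fun t => Subtype.ext ?_⟩
    have e : ∀ (d : Fin 6 → Kˣ) (a : Fin 6) (t : K), tor6 K d * (X6 K).x (R6.simple a) t * (tor6 K d)⁻¹ =
        (X6 K).x (R6.simple a) ((∏ b, d b ^ carE6 b a : Kˣ) * t) := tor_simple goodE6 (car_eqE6 _)
    show tor6 K _ * ((X6 K).x _ t * (X6 K).x _ (S.g i t)) * (tor6 K _)⁻¹ = (X6 K).x _ (u * t) * (X6 K).x _ (S.g i (u * t))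
    rw [← conj_mul, e, e, c2, c3, map_mul, h.g i u]; simp
  have h1 : ∀ u : Kˣ, (u ^ q) ^ q = u := fun u => Units.ext (by simpa [h.g] using h.gg 0 0 u)
  fin_cases k
  · exact lg h.J0 rfl h.J1 rfl (h.wJ_eq' 1) (car6 _ _) (by simp) (H15.IsE6.comm (c := -1) (by decide) (by decide +kernel))
  · exact lg h.J1 rfl h.J0 rfl (h.wJ_eq' 0) (car6 _ _) (by simp) (H15.IsE6.comm (c := 1) (by decide) (by decide +kernel))
  · exact sh h.J2 (by decide) rfl rfl rfl (fun u => ![u⁻¹, 1, 1, 1, 1, u⁻¹ ^ q])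
      (fun u a => by fin_cases a <;> simp [τ6, h1]) (by simp [Fin.prod_univ_six, carE6]) (by simp [Fin.prod_univ_six, carE6])
  · exact sh h.J3 (by decide) rfl rfl rfl (fun u => ![1, 1, u⁻¹, 1, u⁻¹ ^ q, 1])
      (fun u a => by fin_cases a <;> simp [τ6, h1]) (by simp [Fin.prod_univ_six, carE6]) (by simp [Fin.prod_univ_six, carE6])

end Cfsg.Agent.H14.Mu
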