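import Cfsg.Agent.H14.Fold3
import Cfsg.Agent.H14.Stb4
import Cfsg.Agent.H14.Lang2
import Cfsg.Agent.H15.TwIE
import Cfsg.Agent.H15.TwA2

/-! Regular unipotent elements; three classes of `F₄(2)` in `²E₆(2)`. -/

set_option autoImplicit false

namespace Cfsg.Agent.H14

open H15 Cfsg.Lie

namespace RG

variable {ι Φ : Type} [Fintype ι] [DecidableEq ι] {R : RS ι Φ} {K : Type*} [Field K] {G : Type*} [Group G] (X : RG R K G)

lemma co_conj_U {i : ι} {u v : G} (hu : u ∈ X.U) (hv : v ∈ X.U) : co X i (u * v * u⁻¹) = co X i v := by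
  rw [co_mul (mul_mem hu hv) (inv_mem hu), co_mul hu hv, co_inv hu]; ring

/-- a regular unipotent element lies in a unique conjugate of `U` -/
theorem mem_B_of_reg [Finite Φ] {v g : G} (hv : v ∈ X.U) (h : ∀ i, co X i v ≠ 0) (hg : g ∈ X.grp) (h1 : g * v * g⁻¹ ∈ X.U) :
    g ∈ X.B := by
  obtain ⟨u, hu, n, hn, w, hw, y, hy, rfl⟩ := X.exists_normal_form hg
  have hy' := X.Uw_le_U w hy
  refine mul_mem (mul_mem (X.U_le_B hu) (X.H_le_B ((X.mem_H_iff_rep hn).2 (inv_eq_empty hw.1 (fun i hi => h i ?_) ▸ hw)))) (X.U_le_B hy')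
  obtain ⟨a, ha, c, hc, e⟩ := X.exists_mul_of_union RS.htv (S := {r | R.pos r}) (A := {r | R.pos r ∧ R.pos (w r)})
    (B := {r | R.pos r ∧ ¬ R.pos (w r)}) (fun r hr => RS.pos.ht_pos hr) (fun r hr s hs k hk => RS.comb_pos hk hr hs)
    (by ext r; simp [← and_or_left, em]) (mul_mem (mul_mem hy' hv) (inv_mem hy'))
  rw [show u * n * y * v * (u * n * y)⁻¹ = u * (n * (y * v * y⁻¹) * n⁻¹) * u⁻¹ by group, mul_mem_cancel_right (inv_mem hu),
    mul_mem_cancel_left hu, e, ← conj_mul, mul_mem_cancel_left (show _ ∈ X.U from hw.conj_mem_gen (fun r hr => hr.2) ha)] at h1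
  rw [← X.co_conj_U hy' hv, e, conj_eq_one_iff.1 (X.eq_one_of_mem_V_B (hw.conj_mem_gen (T := {r | ¬ R.pos r}) (fun r hr => hr.2) hc)
    (X.U_le_B h1)), mul_one]
  exact X.gen_induction (P := fun a => co X i a = 0) co_one (fun r hr t g hg ih => by
    rw [co_mul (X.x_mem_U hr.1 t) (X.gen_mono (fun _ h => h.1) hg), ih, co_ne (by rintro rfl; exact hi.2 hr.2) hr.1, add_zero]) ha

variable {F : Type*} [Field F] {G₀ : Type*} [Group G₀] (Y : RG R F G₀) {σ : F →+* K}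

lemma co_hom {j : G₀ →* G} {χ : Φ → K} (h : ∀ r t, j (Y.x r t) = X.x r (χ r * σ t)) (i : ι) {u : G₀} (hu : u ∈ Y.U) :
    j u ∈ X.U ∧ co X i (j u) = χ (R.simple i) * σ (co Y i u) :=
  Y.gen_induction (P := fun u => j u ∈ X.U ∧ co X i (j u) = χ (R.simple i) * σ (co Y i u)) (by simp) (fun r hr t g hg ih => by
    rw [map_mul, h, co_mul (X.x_mem_U hr _) ih.1, co_mul (Y.x_mem_U hr _) hg, ih.2, map_add, mul_add]
    refine ⟨mul_mem (X.x_mem_U hr _) ih.1, ?_⟩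
    by_cases e : r = R.simple i <;> simp [e, co_ne, hr.out]) hu

theorem exists_H_of_conj [Finite Φ] [Finite F] [Finite G₀] [CharP F 2] (hF : ∀ t : F, t ≠ 0 → t = 1) (htop : Y.grp = ⊤) (hm : Y.HMul)
    {j j' : G₀ →* G} {χ χ' : Φ → Kˣ} (h : ∀ r t, j (Y.x r t) = X.x r (χ r * σ t)) (h' : ∀ r t, j' (Y.x r t) = X.x r (χ' r * σ t))
    (hj : Function.Injective j') {u y : G₀} (hu : u ∈ Y.U) (h1 : ∀ i, co Y i u = 1) {g : G} (hg : g ∈ X.grp) (e : g * j u * g⁻¹ = j' y) :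
    ∃ z ∈ X.H, ∀ i, co X i (z * X.x (R.simple i) 1 * z⁻¹) * χ (R.simple i) = χ' (R.simple i) := by
  obtain ⟨k, hk⟩ := Y.isPGroup_U 2 ⟨u, hu⟩
  obtain ⟨a, -, ha⟩ := Y.exists_conj_U htop hm 2 le_top le_top (Q := Subgroup.zpowers y) (IsPGroup.iff_card.2 (by
    rw [Nat.card_zpowers]
    exact ((Nat.dvd_prime_pow Nat.prime_two).1 (orderOf_dvd_of_pow_eq_one (hj (by
      rw [map_pow, ← e, conj_pow, ← map_pow, show u ^ 2 ^ k = 1 from congrArg Subtype.val hk]; simp)))).imp fun _ h => h.2))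
  have a1 := fun i => X.co_hom Y h' i (ha y (Subgroup.mem_zpowers y))
  have a2 := fun i => X.co_hom Y h i hu
  have a3 : j' (a * y * a⁻¹) = j' a * g * j u * (j' a * g)⁻¹ := by simp [← e, mul_assoc]
  obtain i | ⟨⟨i⟩⟩ := isEmpty_or_nonempty ι
  · exact ⟨1, one_mem _, i.elim⟩
  obtain ⟨v, hv, z, hz, a4⟩ := X.mem_B_iff.1 (X.mem_B_of_reg (a2 i).1 (fun i => by simp [a2, h1]) (mul_mem
    ((Y.gen_le (M := X.grp.comap j')).2 (fun r _ t => by simpa [h'] using X.x_mem_grp _ _) (htop.ge trivial)) hg) (a3 ▸ (a1 i).1))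
  refine ⟨z, hz, fun i => ?_⟩
  have a5 := (a1 i).2
  rw [a3, a4, show v * z * j u * (v * z)⁻¹ = v * (z * j u * z⁻¹) * v⁻¹ by group, X.co_conj_U hv (X.H_conj_mem_gen hz (a2 i).1),
    co_conj hz (a2 i).1, (a2 i).2, h1, map_one, mul_one] at a5
  obtain ⟨-, c, -, a6⟩ := X.rep_H hz
  rw [a5, hF (co Y i _) fun e => by simp [e, a6] at a5, map_one, mul_one]

end RG

/-- the root subgroups of `E₆(F)` -/
noncomputable def Y6 (F : Type*) [Field F] : RG R6 F (chevE6.group F) := goodE6.rgD F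

lemma exists_graph6 (F : Type*) [Field F] : ∃ φ : MulAut (chevE6.group F), chevE6.IsGraphAut φ ∧ φ ≠ 1 ∧ ∀ i t,
    φ ((Y6 F).x (R6.simple i) t) = (Y6 F).x (R6.simple (τ6 i)) t ∧
      φ ((Y6 F).x (R6.neg (R6.simple i)) t) = (Y6 F).x (R6.neg (R6.simple (τ6 i))) t := by
  obtain ⟨φ, h⟩ := goodE6.exists_graphAut (F := F) (by simp) morE6 (Or.inl rfl) fun x => ⟨x, pow_one x⟩
  have a1 : ∀ i : Fin chevE6.rank, morE6.r (goodE6.R.simple i) = goodE6.R.simple (sE6 i) ∧ morE6.ε (goodE6.R.simple i) = 1 := fun i => by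
    rw [Fin.ext_iff, Morph.r_val, goodE6.simple_eq, goodE6.simple_eq]
    exact ⟨(morE6_simple i i.2).1.trans (congrArg _ ((by decide : ∀ i : Fin 6, [5, 1, 4, 3, 2, 0].getD i 0 = (τ6 i : ℕ)) i)),
      (morE6_simple i i.2).2⟩
  have a2 : ∀ i t, φ ((goodE6.rgD F).x (goodE6.R.simple i) t) = (goodE6.rgD F).x (goodE6.R.simple (sE6 i)) t ∧
      φ ((goodE6.rgD F).x (goodE6.R.neg (goodE6.R.simple i)) t) = (goodE6.rgD F).x (goodE6.R.neg (goodE6.R.simple (sE6 i))) t := fun i t => by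
    rw [h, h, morE6.r_neg goodE6 goodE6, goodE6.neg_eq, (morE6.ok _ (goodE6.R.simple i).2).2.2.2.1, (a1 i).1, (a1 i).2]
    simp [morE6_e]
  refine ⟨φ, goodE6.isGraphAut_iff.2 ⟨sE6, by unfold ChevalleyDatum.IsDiagramSymmetry; decide +kernel, ?_⟩, fun e => ?_, a2⟩
  · simpa only [ChevalleyDatum.graphExp, (by decide +kernel : ∀ i : Fin chevE6.rank, chevE6.isLong (chevE6.simple i) = false),
      Bool.false_and, Bool.false_eq_true, if_false, pow_one] using a2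
  · have := congrArg (co (Y6 F) 0) (show (Y6 F).x (R6.simple 0) 1 = (Y6 F).x (R6.simple 5) 1 from by
      have := (a2 (0 : Fin 6) 1).1
      rwa [e] at this)
    simp [co_simple] at this

lemma Good.exists_emb {D : ChevalleyDatum} (G : Good D) {F K : Type*} [Field F] [Field K] (σ : F →+* K)
    (χ : Multiplicative (Fin D.rank → ℤ) →* Kˣ) : ∃ j : D.group F →* GL D.Idx K,
      Function.Injective j ∧ ∀ r t, j ((G.rgD F).x r t) = (G.rg K).x r (χ (Multiplicative.ofAdd (G.R.vec r)) * σ t) := by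
  let β : GL D.Idx F →* GL D.Idx K := Units.map (σ.mapMatrix (m := D.Idx)).toMonoidHom
  have h1 : ∀ r t, β ((G.rg F).x r t) = (G.rg K).x r (σ t) := fun r t => Units.ext (map_xR σ r t)
  have h2 : Function.Injective β := fun a b h => Units.ext (Matrix.map_injective σ.injective (congrArg Units.val h))
  refine ⟨(MulAut.conj (G.dgG K χ)).toMonoidHom.comp (β.comp (D.group F).subtype),
    (MulAut.conj _).injective.comp (h2.comp Subtype.val_injective), fun r t => ?_⟩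
  rw [← G.dgG_conj, ← h1]; rfl

/-- the twisted embeddings of `E₆(F)` -/
lemma exists_emb6 {F K : Type*} [Field F] [Field K] (σ : F →+* K) (a : Kˣ) : ∃ j : chevE6.group F →* GL chevE6.Idx K,
    Function.Injective j ∧ ∀ r t, j ((Y6 F).x r t) = (X6 K).x r ((a ^ (R6.vec r 0 - R6.vec r 5) : Kˣ) * σ t) := by
  let f : (Fin 6 → ℤ) →ₗ[ℤ] ℤ := LinearMap.proj (R := ℤ) (φ := fun _ => ℤ) 0 - LinearMap.proj (R := ℤ) (φ := fun _ => ℤ) 5
  obtain ⟨j, h1, h2⟩ := goodE6.exists_emb σ (Good.powChar (D := chevE6) a f)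
  exact ⟨j, h1, fun r t => (h2 r t).trans (congrArg (fun c : Kˣ => (X6 K).x r (c * σ t)) rfl)⟩

lemma emb6_ne {K G G₀ : Type*} [Field K] [Group G] [Group G₀] [Finite G₀] {Φ : Type} [Finite Φ] {R : RS (Fin 6) Φ}
    (hR : ∀ i j, R.car i j = carE6 i j) {X : RG R K G} {Y : RG R (ZMod 2) G₀} {σ : ZMod 2 →+* K}
    {φ : MulAut G₀} (hφ : ∀ i, φ (Y.x (R.simple i) 1) = Y.x (R.simple (τ6 i)) 1) {a b : Kˣ} {j j' : G₀ →* G}
    (hj : ∀ r t, j (Y.x r t) = X.x r ((a ^ (R.vec r 0 - R.vec r 5) : Kˣ) * σ t))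
    (hj' : ∀ r t, j' (Y.x r t) = X.x r ((b ^ (R.vec r 0 - R.vec r 5) : Kˣ) * σ t)) (a0 : Y.grp = ⊤) (a1 : Y.HMul) (a2 : X.HMul)
    (h3 : ∀ c : Kˣ, c ^ 3 = 1) (hi : Function.Injective j') {g : G} (hg : g ∈ X.grp)
    (e : ∀ y, φ y = y → ∃ w, g * j y * g⁻¹ = j' w) : a = b := by
  let y : Fin 6 → G₀ := fun i => Y.x (R.simple i) 1
  have b1 : ∀ i, y i ∈ Y.U := fun i => Y.x_mem_U (R.pos_simple i) 1
  have b2 : ∀ i k, i ≠ k → carE6 i k = 0 → y i * y k = y k * y i := fun i k h1 h2 => (commute_of_orth Y h1 ((hR i k).trans h2)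
    (Y.x_mem_gen (RG.simple_mem_sub.2 (Set.mem_singleton i)) 1) (Y.x_mem_gen (RG.simple_mem_sub.2 (Set.mem_singleton k)) 1)).eq
  obtain ⟨w, b4⟩ := e (y 0 * y 5 * (y 2 * y 4) * y 1 * y 3) (by
    simp only [map_mul, y, hφ]
    exact congrArg (· * y 1 * y 3) (congrArg₂ _ (b2 5 0 (by decide) rfl) (b2 4 2 (by decide) rfl)))
  obtain ⟨z, hz, b5⟩ := X.exists_H_of_conj Y (χ := fun r => a ^ (R.vec r 0 - R.vec r 5))
    (χ' := fun r => b ^ (R.vec r 0 - R.vec r 5)) (by decide) a0 a1 hj hj' hi (mul_mem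
      (mul_mem (mul_mem (mul_mem (b1 0) (b1 5)) (mul_mem (b1 2) (b1 4))) (b1 1)) (b1 3)) (fun i => by
      rw [co_mul (mul_mem (mul_mem (mul_mem (b1 0) (b1 5)) (mul_mem (b1 2) (b1 4))) (b1 1)) (b1 3),
        co_mul (mul_mem (mul_mem (b1 0) (b1 5)) (mul_mem (b1 2) (b1 4))) (b1 1), co_mul (mul_mem (b1 0) (b1 5)) (mul_mem (b1 2) (b1 4)),
        co_two, co_two, co_simple, co_simple]
      revert i; decide) hg b4
  obtain ⟨c, rfl⟩ := X.exists_torX a2 hz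
  simp only [X.torX_conj', co_x, mul_one, RS.chi, RS.pair_simple_simple, hR, R.vec_simple, ← Units.val_mul, Units.val_inj] at b5
  have c0 := b5 0
  have c2 := b5 2
  have c4 := b5 4
  have c5 := b5 5
  simp [Fin.prod_univ_six, carE6] at c0 c2 c4 c5
  have : a ^ 2 * (c 0 ^ 3 * (c 2 ^ 3)⁻¹ * c 4 ^ 3 * (c 5 ^ 3)⁻¹) = c 0 ^ 2 * (c 2)⁻¹ * a * ((c 0)⁻¹ * c 2 ^ 2 * (c 3)⁻¹)⁻¹ *
    ((c 3)⁻¹ * c 4 ^ 2 * (c 5)⁻¹) * ((c 4)⁻¹ * c 5 ^ 2 * a⁻¹)⁻¹ := Units.ext (by push_cast; field_simp)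
  simp only [h3, c0, c2, c4, c5, inv_one, mul_one, inv_inv] at this
  exact mul_left_cancel (a := a ^ 2) (by rw [← pow_succ, h3, this, ← pow_two, ← pow_succ, h3])

variable {K : Type*} [Field K] {σ : ZMod 2 →+* K} {φ : MulAut (chevE6.group (ZMod 2))}
  (hφ : ∀ i t, φ ((Y6 _).x (R6.simple i) t) = (Y6 _).x (R6.simple (τ6 i)) t ∧
    φ ((Y6 _).x (R6.neg (R6.simple i)) t) = (Y6 _).x (R6.neg (R6.simple (τ6 i))) t)
  {a : Kˣ} {j : chevE6.group (ZMod 2) →* GL chevE6.Idx K}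
  (hj : ∀ r t, j ((Y6 _).x r t) = (X6 K).x r ((a ^ (R6.vec r 0 - R6.vec r 5) : Kˣ) * σ t))

include hφ hj in
lemma emb6_le [Fintype K] {S : TwO (X6 K) (Fin 4)} (h : H15.IsE6 S 2) (ha : a ^ 3 = 1) :
    (φ.toMonoidHom.eqLocus (MonoidHom.id _)).map j ≤ twistedE6 K 2 := by
  have a0 : (Y6 (ZMod 2)).grp = ⊤ := goodE6.rgD_top _
  have a5 : ∀ g, j g ∈ (X6 K).grp := fun g =>
    ((Y6 _).gen_le (M := (X6 K).grp.comap j)).2 (fun r _ t => by simpa [hj] using (X6 K).x_mem_grp _ _) (a0.ge trivial)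
  have a6 : ∀ (t : ZMod 2) (m n : ℤ), m * (2 : ℕ) ≡ n [ZMOD (3 : ℕ)] → ((a ^ m : Kˣ) * σ t) ^ 2 = (a ^ n : Kˣ) * σ t := fun t m n e => by
    rw [mul_pow, ← map_pow, ZMod.pow_card, ← Units.val_pow_eq_pow_val, ← zpow_natCast, ← zpow_mul,
      zpow_eq_zpow_iff_modEq.2 (e.of_dvd (Int.natCast_dvd_natCast.2 (orderOf_dvd_of_pow_eq_one ha)))]
  rintro _ ⟨g, hg, rfl⟩
  have := (Y6 _).hom_ext a0 (φ := MonoidHom.mk' (fun g => S.s (j g)) fun b c => by rw [map_mul, S.s_mul _ (a5 _) _ (a5 _)])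
    (ψ := j.comp φ.toMonoidHom) (fun i t => ?_) fun i t => ?_
  · exact h.T_eq ▸ h.Fix_le ⟨a5 _, (DFunLike.congr_fun this g).trans (congrArg _ hg)⟩
  all_goals
    simp only [MonoidHom.mk'_apply, MonoidHom.comp_apply, MulEquiv.coe_toMonoidHom, hφ, hj, S.s_pos, S.s_neg, h.g, h.τ, R6.vec_simple, R6.vec_neg]
    rw [a6]
    revert i
    decide

theorem exists_three_F4 [Fintype K] (hK : Fintype.card K = 4) : ∃ H : Kˣ → Subgroup (twistedE6 K 2),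
    (∀ a, Nonempty (H a ≃* chevF4.group (ZMod 2))) ∧ ∀ a b (g : twistedE6 K 2), (H a).map (MulAut.conj g).toMonoidHom = H b → a = b := by
  have : CharP K 2 := charP_of_card_eq_prime_pow (f := 2) hK
  obtain ⟨S, h⟩ := exists_E6 (K := K) (q := 2) Nat.prime_two.isPrimePow hK
  obtain ⟨φ, a1, a2, a3⟩ := exists_graph6 (ZMod 2)
  choose j j1 j2 using exists_emb6 (ZMod.castHom (dvd_refl 2) K)
  have a4 : ∀ a : Kˣ, a ^ 3 = 1 := fun a => by
    classical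
    simpa [Fintype.card_units, hK] using pow_card_eq_one (x := a)
  have a7 := fun a => emb6_le a3 (j2 a) h (a4 a)
  refine ⟨fun a => ((φ.toMonoidHom.eqLocus (MonoidHom.id _)).map (j a)).subgroupOf _, fun a => (fold_E6 a1 a2).map fun e =>
    ((Subgroup.subgroupOfEquivOfLe (a7 a)).trans (Subgroup.equivMapOfInjective _ _ (j1 a)).symm).trans e, fun a b g e =>
      emb6_ne car6 (X := X6 K) (Y := Y6 _) (fun i => (a3 i 1).1) (j2 a) (j2 b) (goodE6.rgD_top _) (goodE6.rgD_hmul _) goodE6.hmul_rg a4 (j1 b)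
        (S.T_le_grp (h.T_eq.ge g.2)) fun y hy => ?_⟩
  obtain ⟨w, -, b4⟩ := e.le ⟨⟨_, a7 a ⟨y, hy, rfl⟩⟩, ⟨y, hy, rfl⟩, rfl⟩
  exact ⟨w, b4.symm⟩

end Cfsg.Agent.H14
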