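import Cfsg.Agent.H14.WC2

/-! The tables for weakly closed unipotent subgroups. -/

set_option autoImplicit false

namespace Cfsg.Agent.H14

open Cfsg.Lie

lemma wcG2 : WCTab chevG2 2 0x60707060000000000000000 0xa0606070000000000000000
    [[2, 3], [1, 2]] := by decide +kernel

lemma wcB2 : WCTab chevB2 2 0x504000000000000 0x405000000000000
    [[1, 1], [1, 2]] := by decide +kernel

lemma wcD4 : WCTab chevD4 2 0xe0c0d0c0e000c0d0c000000000000000000000000000000 0x161513131200100e0e000000000000000000000000000000
    [[0, -1, -2], [1], [0, 0, -1], [-1], [0, 0, 1], [-2, -1], [0, 0, 0, 1]] := by decide +kernel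

lemma wcF4 : WCTab chevF4 2 0x18191e1b1918211b19181b18191b0019181b181900180000000000000000000000000000000000000000000000000000 0x2e2d2a2b2a291e27262523232221001f1e191c1b00190000000000000000000000000000000000000000000000000000
    [[0, -1, -2], [0, -1, -1], [0, -1], [0, 0, -1], [-1], [0, 0, 0, -1], [0, 1, 2, 1], [1, 0, -1]] := by decide +kernel

lemma wcE6 : WCTab chevE6 1 0x2e2725242a25242724252e2425272a0025242724252a2425270024252700242500240000000000000000000000000000000000000000000000000000000000000000000000000000 0x464544434041403e3e3d3a3b3a39380036353333322f302f2e002c2b2a00282700250000000000000000000000000000000000000000000000000000000000000000000000000000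
    [[0, 0, -1], [0, 0, -1, -2], [0, 1, -1], [0, 0, 0, -1], [1, 0, 0, -1], [0, 0, -2, -1], [0, 0, 0, -1, 0, 1], [-1], [0, -1], [0, 0, 0, 0, 0, -1], [0, 0, 0, 0, -1], [0, 1, 0, 0, -1], [0, 0, 0, -2, -1]] := by decide +kernel

lemma wcE7 : WCTab chevE7 1 0x5d494542403f4e42403f45403f423f4049403f423f40453f40424e3f4042454900403f423f40453f4042493f404245003f404245003f4042003f40003f0000000000000000000000000000000000000000000000000000000000000000000000000000000000000000000000000000000000000000000000000000000000 0x7c7b7a797877737574737071706e6e6d676b6a686867646564635f61605f5e5d005b5a585857545554534f51504f4e004c4b4a490047464500434200400000000000000000000000000000000000000000000000000000000000000000000000000000000000000000000000000000000000000000000000000000000000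
    [[0, 0, -1], [0, 0, -1, -2], [0, 1, -1], [0, 0, 0, -1], [1, 0, 0, -1], [0, 0, -2, -1], [0, 0, 0, -1, 0, 1], [-1], [0, -1], [0, 0, 0, 0, 0, -1], [0, 0, 0, 0, -1], [0, 0, 0, 0, 0, 0, -1], [0, 0, 0, 1, 0, -1], [0, 0, 0, 0, -2, -1]] := by decide +kernel

lemma wcE8 : WCTab chevE8 1 0x78797b7e82878d87827e7b7978a28d827e7b7978877e7b7978827b79787e79787b78798d7b79787e79787b78798279787b78797e78797b8779787b78797e78797b8278797b7e8d78797b7e82870079787b78797e78797b8278797b7e8778797b7e820078797b7e820078797b7e0078797b00787900780000000000000000000000000000000000000000000000000000000000000000000000000000000000000000000000000000000000000000000000000000000000000000000000000000000000000000000000000000000000000000000000000000000000000000000000000000000000000000000000000000 0xeeedecebeae9e7e7e6e5e4e3e2dbe0dfdedddcdbd6d9d8d7d6d2d4d3d2cfd0cfcdcdccc2cac9c8c5c6c5c3c3c2bcc0bfbdbdbcb9bab9b8aeb6b5b3b3b2afb0afaeaaacabaaa9a4a7a6a5a4a3a200a09f9d9d9c999a999894969594938e91908f8e8d008b8a898887008584838200807f7e007c7b00790000000000000000000000000000000000000000000000000000000000000000000000000000000000000000000000000000000000000000000000000000000000000000000000000000000000000000000000000000000000000000000000000000000000000000000000000000000000000000000000000000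
    [[0, 0, -1], [0, 0, -1, -2], [0, 1, -1], [0, 0, 0, -1], [1, 0, 0, -1], [0, 0, -2, -1], [0, 0, 0, -1, 0, 1], [-1], [0, -1], [0, 0, 0, 0, 0, -1], [0, 0, 0, 0, -1], [0, 0, 0, 0, 0, 0, -1], [0, 0, 0, 0, 0, 0, 0, -1], [0, 0, 0, 0, 1, 0, -1], [0, 0, 0, 0, 0, -2, -1]] := by decide +kernel

end Cfsg.Agent.H14
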